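import Cfsg.Agent.Lib.TC.D.Fi23a.Tab
import Cfsg.Agent.Lib.ThreeT.Real.Form

/-! # The table of the reflection group, generated -/

set_option autoImplicit false
set_option maxRecDepth 1000000
set_option maxHeartbeats 0
set_option linter.style.longLine false

namespace Cfsg.Agent.Lib.ThreeT.Real.D23

open Cfsg.Agent.Lib.ThreeT.Real

/-- The code of the vector at a point. -/
def vT (p : Nat) : Nat := (bif Nat.ble 3847 p then (bif Nat.ble 5689 p then (bif Nat.ble 6627 p then (bif Nat.ble 8003 p then (bif Nat.ble 8706 p then (bif Nat.ble 9715 p then (bif Nat.ble 9770 p then (bif Nat.ble 9771 p then (bif Nat.ble 11589 p then (bif Nat.beq p 11589 then 401 else 0) else (bif Nat.beq p 9771 then 1042 else 0)) else (bif Nat.beq p 9770 then 1396 else 0)) else (bif Nat.ble 9768 p then (bif Nat.ble 9769 p then (bif Nat.beq p 9769 then 856 else 0) else (bif Nat.beq p 9768 then 365 else 0)) else (bif Nat.beq p 9715 then 1146 else 0))) else (bif Nat.ble 8708 p then (bif Nat.ble 9592 p then (bif Nat.ble 9714 p then (bif Nat.beq p 9714 then 2164 else 0) else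 (bif Nat.beq p 9592 then 719 else 0)) else (bif Nat.beq p 8708 then 914 else 0)) else (bif Nat.ble 8707 p then (bif Nat.beq p 8707 then 329 else 0) else (bif Nat.beq p 8706 then 533 else 0)))) else (bif Nat.ble 8056 p then (bif Nat.ble 8061 p then (bif Nat.ble 8062 p then (bif Nat.ble 8063 p then (bif Nat.beq p 8063 then 774 else 0) else (bif Nat.beq p 8062 then 1744 else 0)) else (bif Nat.beq p 8061 then 1244 else 0)) else (bif Nat.ble 8057 p then (bif Nat.ble 8060 p then (bif Nat.beq p 8060 then 1311 else 0) else (bif Nat.beq p 8057 then 1449 else 0)) else (bif Nat.beq p 8056 then 884 else 0))) else (bif Nat.ble 8007 p then (bif Nat.ble 8054 p then (bif Nat.ble 8055 p then (bif Nat.beq p 8055 then 1275 else 0) else (bif Nat.beq p 8054 then 221 else 0)) else (bif Nat.beq p 8007 then 1158 else 0)) else (bif Nat.ble 8004 p then (bif Nat.beq p 8004 then 28 else 0) else (bif Nat.beq p 8003 then 509 else 0))))) else (bif Nat.ble 7110 p then (bif Nat.ble 7991 p then (bif Nat.ble 8000 p then (bif Nat.ble 8001 p then (bif Nat.ble 8002 p then (bif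 Nat.beq p 8002 then 750 else 0) else (bif Nat.beq p 8001 then 197 else 0)) else (bif Nat.beq p 8000 then 692 else 0)) else (bif Nat.ble 7995 p then (bif Nat.ble 7999 p then (bif Nat.beq p 7999 then 1768 else 0) else (bif Nat.beq p 7995 then 576 else 0)) else (bif Nat.beq p 7991 then 857 else 0))) else (bif Nat.ble 7112 p then (bif Nat.ble 7834 p then (bif Nat.ble 7990 p then (bif Nat.beq p 7990 then 2025 else 0) else (bif Nat.beq p 7834 then 596 else 0)) else (bif Nat.beq p 7112 then 939 else 0)) else (bif Nat.ble 7111 p then (bif Nat.beq p 7111 then 708 else 0) else (bif Nat.beq p 7110 then 832 else 0)))) else (bif Nat.ble 7104 p then (bif Nat.ble 7107 p then (bif Nat.ble 7108 p then (bif Nat.ble 7109 p then (bif Nat.beq p 7109 then 465 else 0) else (bif Nat.beq p 7108 then 1814 else 0)) else (bif Nat.beq p 7107 then 93 else 0)) else (bif Nat.ble 7105 p then (bif Nat.ble 7106 p then (bif Nat.beq p 7106 then 1780 else 0) else (bif Nat.beq p 7105 then 1439 else 0)) else (bif Nat.beq p 7104 then 57 else 0))) else (bif Nat.ble 6629 p then (bif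 Nat.ble 6630 p then (bif Nat.ble 6631 p then (bif Nat.beq p 6631 then 1468 else 0) else (bif Nat.beq p 6630 then 1772 else 0)) else (bif Nat.beq p 6629 then 852 else 0)) else (bif Nat.ble 6628 p then (bif Nat.beq p 6628 then 2015 else 0) else (bif Nat.beq p 6627 then 1022 else 0)))))) else (bif Nat.ble 6506 p then (bif Nat.ble 6539 p then (bif Nat.ble 6553 p then (bif Nat.ble 6623 p then (bif Nat.ble 6624 p then (bif Nat.ble 6625 p then (bif Nat.beq p 6625 then 1222 else 0) else (bif Nat.beq p 6624 then 193 else 0)) else (bif Nat.beq p 6623 then 294 else 0)) else (bif Nat.ble 6554 p then (bif Nat.ble 6555 p then (bif Nat.beq p 6555 then 2056 else 0) else (bif Nat.beq p 6554 then 173 else 0)) else (bif Nat.beq p 6553 then 445 else 0))) else (bif Nat.ble 6541 p then (bif Nat.ble 6542 p then (bif Nat.ble 6552 p then (bif Nat.beq p 6552 then 434 else 0) else (bif Nat.beq p 6542 then 1013 else 0)) else (bif Nat.beq p 6541 then 40 else 0)) else (bif Nat.ble 6540 p then (bif Nat.beq p 6540 then 172 else 0) else (bif Nat.beq p 6539 then 1377 else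 0)))) else (bif Nat.ble 6524 p then (bif Nat.ble 6527 p then (bif Nat.ble 6537 p then (bif Nat.ble 6538 p then (bif Nat.beq p 6538 then 849 else 0) else (bif Nat.beq p 6537 then 703 else 0)) else (bif Nat.beq p 6527 then 472 else 0)) else (bif Nat.ble 6525 p then (bif Nat.ble 6526 p then (bif Nat.beq p 6526 then 312 else 0) else (bif Nat.beq p 6525 then 433 else 0)) else (bif Nat.beq p 6524 then 1603 else 0))) else (bif Nat.ble 6512 p then (bif Nat.ble 6522 p then (bif Nat.ble 6523 p then (bif Nat.beq p 6523 then 634 else 0) else (bif Nat.beq p 6522 then 1192 else 0)) else (bif Nat.beq p 6512 then 116 else 0)) else (bif Nat.ble 6509 p then (bif Nat.beq p 6509 then 377 else 0) else (bif Nat.beq p 6506 then 1291 else 0))))) else (bif Nat.ble 5701 p then (bif Nat.ble 6295 p then (bif Nat.ble 6502 p then (bif Nat.ble 6504 p then (bif Nat.ble 6505 p then (bif Nat.beq p 6505 then 492 else 0) else (bif Nat.beq p 6504 then 198 else 0)) else (bif Nat.beq p 6502 then 2084 else 0)) else (bif Nat.ble 6296 p then (bif Nat.ble 6297 p then (bif Nat.beq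 p 6297 then 1065 else 0) else (bif Nat.beq p 6296 then 1590 else 0)) else (bif Nat.beq p 6295 then 409 else 0))) else (bif Nat.ble 6291 p then (bif Nat.ble 6292 p then (bif Nat.ble 6293 p then (bif Nat.beq p 6293 then 68 else 0) else (bif Nat.beq p 6292 then 824 else 0)) else (bif Nat.beq p 6291 then 643 else 0)) else (bif Nat.ble 6290 p then (bif Nat.beq p 6290 then 96 else 0) else (bif Nat.beq p 5701 then 1662 else 0)))) else (bif Nat.ble 5694 p then (bif Nat.ble 5698 p then (bif Nat.ble 5699 p then (bif Nat.ble 5700 p then (bif Nat.beq p 5700 then 412 else 0) else (bif Nat.beq p 5699 then 532 else 0)) else (bif Nat.beq p 5698 then 2061 else 0)) else (bif Nat.ble 5695 p then (bif Nat.ble 5697 p then (bif Nat.beq p 5697 then 1623 else 0) else (bif Nat.beq p 5695 then 1411 else 0)) else (bif Nat.beq p 5694 then 4 else 0))) else (bif Nat.ble 5691 p then (bif Nat.ble 5692 p then (bif Nat.ble 5693 p then (bif Nat.beq p 5693 then 716 else 0) else (bif Nat.beq p 5692 then 332 else 0)) else (bif Nat.beq p 5691 then 1646 else 0)) else (bif Nat.ble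 5690 p then (bif Nat.beq p 5690 then 1517 else 0) else (bif Nat.beq p 5689 then 1068 else 0))))))) else (bif Nat.ble 4523 p then (bif Nat.ble 5257 p then (bif Nat.ble 5298 p then (bif Nat.ble 5349 p then (bif Nat.ble 5352 p then (bif Nat.ble 5353 p then (bif Nat.ble 5688 p then (bif Nat.beq p 5688 then 1562 else 0) else (bif Nat.beq p 5353 then 827 else 0)) else (bif Nat.beq p 5352 then 1049 else 0)) else (bif Nat.ble 5350 p then (bif Nat.ble 5351 p then (bif Nat.beq p 5351 then 945 else 0) else (bif Nat.beq p 5350 then 2118 else 0)) else (bif Nat.beq p 5349 then 1953 else 0))) else (bif Nat.ble 5300 p then (bif Nat.ble 5347 p then (bif Nat.ble 5348 p then (bif Nat.beq p 5348 then 499 else 0) else (bif Nat.beq p 5347 then 610 else 0)) else (bif Nat.beq p 5300 then 964 else 0)) else (bif Nat.ble 5299 p then (bif Nat.beq p 5299 then 473 else 0) else (bif Nat.beq p 5298 then 508 else 0)))) else (bif Nat.ble 5262 p then (bif Nat.ble 5287 p then (bif Nat.ble 5288 p then (bif Nat.ble 5289 p then (bif Nat.beq p 5289 then 550 else 0) else (bif Nat.beq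 p 5288 then 126 else 0)) else (bif Nat.beq p 5287 then 1331 else 0)) else (bif Nat.ble 5263 p then (bif Nat.ble 5286 p then (bif Nat.beq p 5286 then 50 else 0) else (bif Nat.beq p 5263 then 666 else 0)) else (bif Nat.beq p 5262 then 1195 else 0))) else (bif Nat.ble 5259 p then (bif Nat.ble 5260 p then (bif Nat.ble 5261 p then (bif Nat.beq p 5261 then 245 else 0) else (bif Nat.beq p 5260 then 595 else 0)) else (bif Nat.beq p 5259 then 678 else 0)) else (bif Nat.ble 5258 p then (bif Nat.beq p 5258 then 1578 else 0) else (bif Nat.beq p 5257 then 1357 else 0))))) else (bif Nat.ble 4972 p then (bif Nat.ble 5234 p then (bif Nat.ble 5238 p then (bif Nat.ble 5240 p then (bif Nat.ble 5256 p then (bif Nat.beq p 5256 then 1053 else 0) else (bif Nat.beq p 5240 then 162 else 0)) else (bif Nat.beq p 5238 then 657 else 0)) else (bif Nat.ble 5235 p then (bif Nat.ble 5237 p then (bif Nat.beq p 5237 then 646 else 0) else (bif Nat.beq p 5235 then 1710 else 0)) else (bif Nat.beq p 5234 then 635 else 0))) else (bif Nat.ble 4975 p then (bif Nat.ble 4976 p then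 (bif Nat.ble 5233 p then (bif Nat.beq p 5233 then 1671 else 0) else (bif Nat.beq p 4976 then 564 else 0)) else (bif Nat.beq p 4975 then 1874 else 0)) else (bif Nat.ble 4974 p then (bif Nat.beq p 4974 then 1316 else 0) else (bif Nat.beq p 4972 then 904 else 0)))) else (bif Nat.ble 4966 p then (bif Nat.ble 4969 p then (bif Nat.ble 4970 p then (bif Nat.ble 4971 p then (bif Nat.beq p 4971 then 462 else 0) else (bif Nat.beq p 4970 then 234 else 0)) else (bif Nat.beq p 4969 then 705 else 0)) else (bif Nat.ble 4967 p then (bif Nat.ble 4968 p then (bif Nat.beq p 4968 then 1489 else 0) else (bif Nat.beq p 4967 then 1587 else 0)) else (bif Nat.beq p 4966 then 391 else 0))) else (bif Nat.ble 4525 p then (bif Nat.ble 4964 p then (bif Nat.ble 4965 p then (bif Nat.beq p 4965 then 79 else 0) else (bif Nat.beq p 4964 then 1328 else 0)) else (bif Nat.beq p 4525 then 280 else 0)) else (bif Nat.ble 4524 p then (bif Nat.beq p 4524 then 2036 else 0) else (bif Nat.beq p 4523 then 1255 else 0)))))) else (bif Nat.ble 4140 p then (bif Nat.ble 4277 p then (bif Nat.ble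 4517 p then (bif Nat.ble 4520 p then (bif Nat.ble 4521 p then (bif Nat.ble 4522 p then (bif Nat.beq p 4522 then 761 else 0) else (bif Nat.beq p 4521 then 1179 else 0)) else (bif Nat.beq p 4520 then 404 else 0)) else (bif Nat.ble 4518 p then (bif Nat.ble 4519 p then (bif Nat.beq p 4519 then 318 else 0) else (bif Nat.beq p 4518 then 1073 else 0)) else (bif Nat.beq p 4517 then 1530 else 0))) else (bif Nat.ble 4279 p then (bif Nat.ble 4515 p then (bif Nat.ble 4516 p then (bif Nat.beq p 4516 then 812 else 0) else (bif Nat.beq p 4515 then 1028 else 0)) else (bif Nat.beq p 4279 then 2121 else 0)) else (bif Nat.ble 4278 p then (bif Nat.beq p 4278 then 892 else 0) else (bif Nat.beq p 4277 then 1520 else 0)))) else (bif Nat.ble 4235 p then (bif Nat.ble 4243 p then (bif Nat.ble 4275 p then (bif Nat.ble 4276 p then (bif Nat.beq p 4276 then 489 else 0) else (bif Nat.beq p 4275 then 638 else 0)) else (bif Nat.beq p 4243 then 223 else 0)) else (bif Nat.ble 4236 p then (bif Nat.ble 4242 p then (bif Nat.beq p 4242 then 285 else 0) else (bif Nat.beq p 4236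 then 484 else 0)) else (bif Nat.beq p 4235 then 1039 else 0))) else (bif Nat.ble 4232 p then (bif Nat.ble 4233 p then (bif Nat.ble 4234 p then (bif Nat.beq p 4234 then 270 else 0) else (bif Nat.beq p 4233 then 105 else 0)) else (bif Nat.beq p 4232 then 607 else 0)) else (bif Nat.ble 4141 p then (bif Nat.beq p 4141 then 1974 else 0) else (bif Nat.beq p 4140 then 91 else 0))))) else (bif Nat.ble 4117 p then (bif Nat.ble 4134 p then (bif Nat.ble 4137 p then (bif Nat.ble 4138 p then (bif Nat.ble 4139 p then (bif Nat.beq p 4139 then 67 else 0) else (bif Nat.beq p 4138 then 1806 else 0)) else (bif Nat.beq p 4137 then 1999 else 0)) else (bif Nat.ble 4135 p then (bif Nat.ble 4136 p then (bif Nat.beq p 4136 then 681 else 0) else (bif Nat.beq p 4135 then 653 else 0)) else (bif Nat.beq p 4134 then 916 else 0))) else (bif Nat.ble 4131 p then (bif Nat.ble 4132 p then (bif Nat.ble 4133 p then (bif Nat.beq p 4133 then 2142 else 0) else (bif Nat.beq p 4132 then 1636 else 0)) else (bif Nat.beq p 4131 then 1803 else 0)) else (bif Nat.ble 4119 p then (bif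 Nat.beq p 4119 then 1341 else 0) else (bif Nat.beq p 4117 then 574 else 0)))) else (bif Nat.ble 3852 p then (bif Nat.ble 4111 p then (bif Nat.ble 4113 p then (bif Nat.ble 4116 p then (bif Nat.beq p 4116 then 196 else 0) else (bif Nat.beq p 4113 then 481 else 0)) else (bif Nat.beq p 4111 then 1169 else 0)) else (bif Nat.ble 4108 p then (bif Nat.ble 4109 p then (bif Nat.beq p 4109 then 1894 else 0) else (bif Nat.beq p 4108 then 1477 else 0)) else (bif Nat.beq p 3852 then 511 else 0))) else (bif Nat.ble 3849 p then (bif Nat.ble 3850 p then (bif Nat.ble 3851 p then (bif Nat.beq p 3851 then 1899 else 0) else (bif Nat.beq p 3850 then 2001 else 0)) else (bif Nat.beq p 3849 then 1267 else 0)) else (bif Nat.ble 3848 p then (bif Nat.beq p 3848 then 1154 else 0) else (bif Nat.beq p 3847 then 181 else 0)))))))) else (bif Nat.ble 2343 p then (bif Nat.ble 3138 p then (bif Nat.ble 3321 p then (bif Nat.ble 3519 p then (bif Nat.ble 3841 p then (bif Nat.ble 3844 p then (bif Nat.ble 3845 p then (bif Nat.ble 3846 p then (bif Nat.beq p 3846 then 49 else 0) else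 (bif Nat.beq p 3845 then 2169 else 0)) else (bif Nat.beq p 3844 then 837 else 0)) else (bif Nat.ble 3842 p then (bif Nat.ble 3843 p then (bif Nat.beq p 3843 then 1000 else 0) else (bif Nat.beq p 3842 then 9 else 0)) else (bif Nat.beq p 3841 then 2138 else 0))) else (bif Nat.ble 3521 p then (bif Nat.ble 3839 p then (bif Nat.ble 3840 p then (bif Nat.beq p 3840 then 764 else 0) else (bif Nat.beq p 3839 then 1270 else 0)) else (bif Nat.beq p 3521 then 60 else 0)) else (bif Nat.ble 3520 p then (bif Nat.beq p 3520 then 1753 else 0) else (bif Nat.beq p 3519 then 1827 else 0)))) else (bif Nat.ble 3349 p then (bif Nat.ble 3516 p then (bif Nat.ble 3517 p then (bif Nat.ble 3518 p then (bif Nat.beq p 3518 then 624 else 0) else (bif Nat.beq p 3517 then 503 else 0)) else (bif Nat.beq p 3516 then 1024 else 0)) else (bif Nat.ble 3514 p then (bif Nat.ble 3515 p then (bif Nat.beq p 3515 then 1258 else 0) else (bif Nat.beq p 3514 then 525 else 0)) else (bif Nat.beq p 3349 then 1797 else 0))) else (bif Nat.ble 3326 p then (bif Nat.ble 3347 p then (bif Nat.ble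 3348 p then (bif Nat.beq p 3348 then 1492 else 0) else (bif Nat.beq p 3347 then 677 else 0)) else (bif Nat.beq p 3326 then 29 else 0)) else (bif Nat.ble 3322 p then (bif Nat.beq p 3322 then 524 else 0) else (bif Nat.beq p 3321 then 1458 else 0))))) else (bif Nat.ble 3160 p then (bif Nat.ble 3165 p then (bif Nat.ble 3318 p then (bif Nat.ble 3319 p then (bif Nat.ble 3320 p then (bif Nat.beq p 3320 then 1542 else 0) else (bif Nat.beq p 3319 then 656 else 0)) else (bif Nat.beq p 3318 then 1777 else 0)) else (bif Nat.ble 3316 p then (bif Nat.ble 3317 p then (bif Nat.beq p 3317 then 317 else 0) else (bif Nat.beq p 3316 then 1922 else 0)) else (bif Nat.beq p 3165 then 144 else 0))) else (bif Nat.ble 3162 p then (bif Nat.ble 3163 p then (bif Nat.ble 3164 p then (bif Nat.beq p 3164 then 1949 else 0) else (bif Nat.beq p 3163 then 1564 else 0)) else (bif Nat.beq p 3162 then 1282 else 0)) else (bif Nat.ble 3161 p then (bif Nat.beq p 3161 then 309 else 0) else (bif Nat.beq p 3160 then 790 else 0)))) else (bif Nat.ble 3154 p then (bif Nat.ble 3157 p then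 (bif Nat.ble 3158 p then (bif Nat.ble 3159 p then (bif Nat.beq p 3159 then 1285 else 0) else (bif Nat.beq p 3158 then 1317 else 0)) else (bif Nat.beq p 3157 then 700 else 0)) else (bif Nat.ble 3155 p then (bif Nat.ble 3156 p then (bif Nat.beq p 3156 then 1845 else 0) else (bif Nat.beq p 3155 then 1072 else 0)) else (bif Nat.beq p 3154 then 1689 else 0))) else (bif Nat.ble 3142 p then (bif Nat.ble 3152 p then (bif Nat.ble 3153 p then (bif Nat.beq p 3153 then 1243 else 0) else (bif Nat.beq p 3152 then 913 else 0)) else (bif Nat.beq p 3142 then 1741 else 0)) else (bif Nat.ble 3139 p then (bif Nat.beq p 3139 then 627 else 0) else (bif Nat.beq p 3138 then 224 else 0)))))) else (bif Nat.ble 2543 p then (bif Nat.ble 2901 p then (bif Nat.ble 2906 p then (bif Nat.ble 3132 p then (bif Nat.ble 3135 p then (bif Nat.ble 3137 p then (bif Nat.beq p 3137 then 704 else 0) else (bif Nat.beq p 3135 then 1604 else 0)) else (bif Nat.beq p 3132 then 2141 else 0)) else (bif Nat.ble 2907 p then (bif Nat.ble 3130 p then (bif Nat.beq p 3130 then 1219 else 0) else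 (bif Nat.beq p 2907 then 7 else 0)) else (bif Nat.beq p 2906 then 980 else 0))) else (bif Nat.ble 2903 p then (bif Nat.ble 2904 p then (bif Nat.ble 2905 p then (bif Nat.beq p 2905 then 2059 else 0) else (bif Nat.beq p 2904 then 571 else 0)) else (bif Nat.beq p 2903 then 43 else 0)) else (bif Nat.ble 2902 p then (bif Nat.beq p 2902 then 1052 else 0) else (bif Nat.beq p 2901 then 1286 else 0)))) else (bif Nat.ble 2667 p then (bif Nat.ble 2898 p then (bif Nat.ble 2899 p then (bif Nat.ble 2900 p then (bif Nat.beq p 2900 then 500 else 0) else (bif Nat.beq p 2899 then 741 else 0)) else (bif Nat.beq p 2898 then 1149 else 0)) else (bif Nat.ble 2668 p then (bif Nat.ble 2897 p then (bif Nat.beq p 2897 then 1016 else 0) else (bif Nat.beq p 2668 then 1494 else 0)) else (bif Nat.beq p 2667 then 1387 else 0))) else (bif Nat.ble 2664 p then (bif Nat.ble 2665 p then (bif Nat.ble 2666 p then (bif Nat.beq p 2666 then 488 else 0) else (bif Nat.beq p 2665 then 1882 else 0)) else (bif Nat.beq p 2664 then 1758 else 0)) else (bif Nat.ble 2663 p then (bif Nat.beq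 p 2663 then 1593 else 0) else (bif Nat.beq p 2543 then 1294 else 0))))) else (bif Nat.ble 2514 p then (bif Nat.ble 2521 p then (bif Nat.ble 2525 p then (bif Nat.ble 2528 p then (bif Nat.ble 2542 p then (bif Nat.beq p 2542 then 394 else 0) else (bif Nat.beq p 2528 then 374 else 0)) else (bif Nat.beq p 2525 then 744 else 0)) else (bif Nat.ble 2522 p then (bif Nat.ble 2524 p then (bif Nat.beq p 2524 then 1308 else 0) else (bif Nat.beq p 2522 then 1792 else 0)) else (bif Nat.beq p 2521 then 728 else 0))) else (bif Nat.ble 2516 p then (bif Nat.ble 2519 p then (bif Nat.ble 2520 p then (bif Nat.beq p 2520 then 1622 else 0) else (bif Nat.beq p 2519 then 1027 else 0)) else (bif Nat.beq p 2516 then 256 else 0)) else (bif Nat.ble 2515 p then (bif Nat.beq p 2515 then 551 else 0) else (bif Nat.beq p 2514 then 1040 else 0)))) else (bif Nat.ble 2348 p then (bif Nat.ble 2351 p then (bif Nat.ble 2352 p then (bif Nat.ble 2513 p then (bif Nat.beq p 2513 then 1734 else 0) else (bif Nat.beq p 2352 then 689 else 0)) else (bif Nat.beq p 2351 then 930 else 0))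 else (bif Nat.ble 2349 p then (bif Nat.ble 2350 p then (bif Nat.beq p 2350 then 1694 else 0) else (bif Nat.beq p 2349 then 281 else 0)) else (bif Nat.beq p 2348 then 725 else 0))) else (bif Nat.ble 2345 p then (bif Nat.ble 2346 p then (bif Nat.ble 2347 p then (bif Nat.beq p 2347 then 894 else 0) else (bif Nat.beq p 2346 then 1155 else 0)) else (bif Nat.beq p 2345 then 142 else 0)) else (bif Nat.ble 2344 p then (bif Nat.beq p 2344 then 2137 else 0) else (bif Nat.beq p 2343 then 1729 else 0))))))) else (bif Nat.ble 1560 p then (bif Nat.ble 1877 p then (bif Nat.ble 2141 p then (bif Nat.ble 2322 p then (bif Nat.ble 2330 p then (bif Nat.ble 2341 p then (bif Nat.ble 2342 p then (bif Nat.beq p 2342 then 966 else 0) else (bif Nat.beq p 2341 then 1993 else 0)) else (bif Nat.beq p 2330 then 380 else 0)) else (bif Nat.ble 2326 p then (bif Nat.ble 2328 p then (bif Nat.beq p 2328 then 1576 else 0) else (bif Nat.beq p 2326 then 888 else 0)) else (bif Nat.beq p 2322 then 1170 else 0))) else (bif Nat.ble 2143 p then (bif Nat.ble 2144 p then (bif Nat.ble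 2145 p then (bif Nat.beq p 2145 then 1469 else 0) else (bif Nat.beq p 2144 then 2087 else 0)) else (bif Nat.beq p 2143 then 297 else 0)) else (bif Nat.ble 2142 p then (bif Nat.beq p 2142 then 1332 else 0) else (bif Nat.beq p 2141 then 1705 else 0)))) else (bif Nat.ble 1970 p then (bif Nat.ble 2138 p then (bif Nat.ble 2139 p then (bif Nat.ble 2140 p then (bif Nat.beq p 2140 then 1540 else 0) else (bif Nat.beq p 2139 then 1612 else 0)) else (bif Nat.beq p 2138 then 1863 else 0)) else (bif Nat.ble 1971 p then (bif Nat.ble 1972 p then (bif Nat.beq p 1972 then 1552 else 0) else (bif Nat.beq p 1971 then 448 else 0)) else (bif Nat.beq p 1970 then 1436 else 0))) else (bif Nat.ble 1889 p then (bif Nat.ble 1890 p then (bif Nat.ble 1969 p then (bif Nat.beq p 1969 then 1668 else 0) else (bif Nat.beq p 1890 then 848 else 0)) else (bif Nat.beq p 1889 then 813 else 0)) else (bif Nat.ble 1880 p then (bif Nat.beq p 1880 then 874 else 0) else (bif Nat.beq p 1877 then 414 else 0))))) else (bif Nat.ble 1718 p then (bif Nat.ble 1865 p then (bif Nat.ble 1872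 p then (bif Nat.ble 1873 p then (bif Nat.ble 1874 p then (bif Nat.beq p 1874 then 1087 else 0) else (bif Nat.beq p 1873 then 1647 else 0)) else (bif Nat.beq p 1872 then 1561 else 0)) else (bif Nat.ble 1867 p then (bif Nat.ble 1871 p then (bif Nat.beq p 1871 then 1085 else 0) else (bif Nat.beq p 1867 then 697 else 0)) else (bif Nat.beq p 1865 then 2024 else 0))) else (bif Nat.ble 1720 p then (bif Nat.ble 1862 p then (bif Nat.ble 1864 p then (bif Nat.beq p 1864 then 2045 else 0) else (bif Nat.beq p 1862 then 2044 else 0)) else (bif Nat.beq p 1720 then 1412 else 0)) else (bif Nat.ble 1719 p then (bif Nat.beq p 1719 then 875 else 0) else (bif Nat.beq p 1718 then 475 else 0)))) else (bif Nat.ble 1712 p then (bif Nat.ble 1715 p then (bif Nat.ble 1716 p then (bif Nat.ble 1717 p then (bif Nat.beq p 1717 then 1985 else 0) else (bif Nat.beq p 1716 then 883 else 0)) else (bif Nat.beq p 1715 then 1988 else 0)) else (bif Nat.ble 1713 p then (bif Nat.ble 1714 p then (bif Nat.beq p 1714 then 1952 else 0) else (bif Nat.beq p 1713 then 2021 else 0)) else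 (bif Nat.beq p 1712 then 2178 else 0))) else (bif Nat.ble 1562 p then (bif Nat.ble 1698 p then (bif Nat.ble 1700 p then (bif Nat.beq p 1700 then 835 else 0) else (bif Nat.beq p 1698 then 1708 else 0)) else (bif Nat.beq p 1562 then 942 else 0)) else (bif Nat.ble 1561 p then (bif Nat.beq p 1561 then 616 else 0) else (bif Nat.beq p 1560 then 1408 else 0)))))) else (bif Nat.ble 1123 p then (bif Nat.ble 1372 p then (bif Nat.ble 1388 p then (bif Nat.ble 1442 p then (bif Nat.ble 1558 p then (bif Nat.ble 1559 p then (bif Nat.beq p 1559 then 1643 else 0) else (bif Nat.beq p 1558 then 1817 else 0)) else (bif Nat.beq p 1442 then 1925 else 0)) else (bif Nat.ble 1440 p then (bif Nat.ble 1441 p then (bif Nat.beq p 1441 then 2126 else 0) else (bif Nat.beq p 1440 then 928 else 0)) else (bif Nat.beq p 1388 then 2086 else 0))) else (bif Nat.ble 1375 p then (bif Nat.ble 1380 p then (bif Nat.ble 1387 p then (bif Nat.beq p 1387 then 1224 else 0) else (bif Nat.beq p 1380 then 724 else 0)) else (bif Nat.beq p 1375 then 1977 else 0)) else (bif Nat.ble 1373 p then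 (bif Nat.beq p 1373 then 1614 else 0) else (bif Nat.beq p 1372 then 792 else 0)))) else (bif Nat.ble 1239 p then (bif Nat.ble 1362 p then (bif Nat.ble 1364 p then (bif Nat.ble 1370 p then (bif Nat.beq p 1370 then 1401 else 0) else (bif Nat.beq p 1364 then 1197 else 0)) else (bif Nat.beq p 1362 then 1686 else 0)) else (bif Nat.ble 1240 p then (bif Nat.ble 1241 p then (bif Nat.beq p 1241 then 1354 else 0) else (bif Nat.beq p 1240 then 102 else 0)) else (bif Nat.beq p 1239 then 753 else 0))) else (bif Nat.ble 1226 p then (bif Nat.ble 1237 p then (bif Nat.ble 1238 p then (bif Nat.beq p 1238 then 1771 else 0) else (bif Nat.beq p 1237 then 2125 else 0)) else (bif Nat.beq p 1226 then 1761 else 0)) else (bif Nat.ble 1124 p then (bif Nat.beq p 1124 then 1355 else 0) else (bif Nat.beq p 1123 then 2151 else 0))))) else (bif Nat.ble 873 p then (bif Nat.ble 993 p then (bif Nat.ble 1042 p then (bif Nat.ble 1043 p then (bif Nat.ble 1122 p then (bif Nat.beq p 1122 then 1585 else 0) else (bif Nat.beq p 1043 then 1854 else 0)) else (bif Nat.beq p 1042 then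 977 else 0)) else (bif Nat.ble 995 p then (bif Nat.ble 1006 p then (bif Nat.beq p 1006 then 76 else 0) else (bif Nat.beq p 995 then 739 else 0)) else (bif Nat.beq p 993 then 1084 else 0))) else (bif Nat.ble 884 p then (bif Nat.ble 885 p then (bif Nat.ble 984 p then (bif Nat.beq p 984 then 836 else 0) else (bif Nat.beq p 885 then 1962 else 0)) else (bif Nat.beq p 884 then 1843 else 0)) else (bif Nat.ble 883 p then (bif Nat.beq p 883 then 1320 else 0) else (bif Nat.beq p 873 then 1025 else 0)))) else (bif Nat.ble 695 p then (bif Nat.ble 743 p then (bif Nat.ble 799 p then (bif Nat.ble 800 p then (bif Nat.beq p 800 then 1388 else 0) else (bif Nat.beq p 799 then 2004 else 0)) else (bif Nat.beq p 743 then 291 else 0)) else (bif Nat.ble 707 p then (bif Nat.beq p 707 then 2140 else 0) else (bif Nat.beq p 695 then 1306 else 0))) else (bif Nat.ble 560 p then (bif Nat.ble 620 p then (bif Nat.ble 621 p then (bif Nat.beq p 621 then 787 else 0) else (bif Nat.beq p 620 then 1586 else 0)) else (bif Nat.beq p 560 then 266 else 0)) else (bif Nat.ble 494 p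 then (bif Nat.beq p 494 then 1359 else 0) else (bif Nat.beq p 429 then 637 else 0)))))))))

/-- The code of the parent of a point. -/
def parT (p : Nat) : Nat := (bif Nat.ble 3847 p then (bif Nat.ble 5689 p then (bif Nat.ble 6627 p then (bif Nat.ble 8003 p then (bif Nat.ble 8706 p then (bif Nat.ble 9715 p then (bif Nat.ble 9770 p then (bif Nat.ble 9771 p then (bif Nat.ble 11589 p then 50001238 else 60005235) else 20005261) else (bif Nat.ble 9768 p then (bif Nat.ble 9769 p then 10002342 else 50004521) else 10002897)) else (bif Nat.ble 8708 p then (bif Nat.ble 9592 p then (bif Nat.ble 9714 p then 50002515 else 743) else 60004970) else (bif Nat.ble 8707 p then 40001713 else 30004138))) else (bif Nat.ble 8056 p then (bif Nat.ble 8061 p then (bif Nat.ble 8062 p then (bif Nat.ble 8063 p then 10004134 else 50002528) else 50001867) else (bif Nat.ble 8057 p then (bif Nat.ble 8060 p then 50002666 else 30005688) else 50004139)) else (bif Nat.ble 8007 p then (bif Nat.ble 8054 p then (bif Nat.ble 8055 p then 30002520 else 10002907) else 30001006) else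 (bif Nat.ble 8004 p then 40002665 else 40001871)))) else (bif Nat.ble 7110 p then (bif Nat.ble 7991 p then (bif Nat.ble 8000 p then (bif Nat.ble 8001 p then (bif Nat.ble 8002 p then 50002140 else 60005697) else 60005350) else (bif Nat.ble 7995 p then (bif Nat.ble 7999 p then 10003349 else 20002665) else 50006541)) else (bif Nat.ble 7112 p then (bif Nat.ble 7834 p then (bif Nat.ble 7990 p then 30005262 else 50002341) else 60003847) else (bif Nat.ble 7111 p then 30004516 else 60006296))) else (bif Nat.ble 7104 p then (bif Nat.ble 7107 p then (bif Nat.ble 7108 p then (bif Nat.ble 7109 p then 30004968 else 60005256) else 60006524) else (bif Nat.ble 7105 p then (bif Nat.ble 7106 p then 50001364 else 60005259) else 50001880)) else (bif Nat.ble 6629 p then (bif Nat.ble 6630 p then (bif Nat.ble 6631 p then 10005258 else 20002326) else 60003135) else (bif Nat.ble 6628 p then 20004243 else 50001971))))) else (bif Nat.ble 6506 p then (bif Nat.ble 6539 p then (bif Nat.ble 6553 p then (bif Nat.ble 6623 p then (bif Nat.ble 6624 p then (bif Nat.ble 6625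 p then 30001873 else 50006296) else 50000993) else (bif Nat.ble 6554 p then (bif Nat.ble 6555 p then 30003521 else 10006541) else 60004975)) else (bif Nat.ble 6541 p then (bif Nat.ble 6542 p then (bif Nat.ble 6552 p then 30001241 else 60001238) else 30004524) else (bif Nat.ble 6540 p then 30006628 else 60003841))) else (bif Nat.ble 6524 p then (bif Nat.ble 6527 p then (bif Nat.ble 6537 p then (bif Nat.ble 6538 p then 20001867 else 60003132) else 30008060) else (bif Nat.ble 6525 p then (bif Nat.ble 6526 p then 60003142 else 50002897) else 40003843)) else (bif Nat.ble 6512 p then (bif Nat.ble 6522 p then (bif Nat.ble 6523 p then 60008060 else 60006552) else 60003320) else (bif Nat.ble 6509 p then 60004131 else 60008706)))) else (bif Nat.ble 5701 p then (bif Nat.ble 6295 p then (bif Nat.ble 6502 p then (bif Nat.ble 6504 p then (bif Nat.ble 6505 p then 50001441 else 60004132) else 50002543) else (bif Nat.ble 6296 p then (bif Nat.ble 6297 p then 50002665 else 40007111) else 10002330)) else (bif Nat.ble 6291 p then (bif Nat.ble 6292 p then (bif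 Nat.ble 6293 p then 60002668 else 30008062) else 30001239) else (bif Nat.ble 6290 p then 10004139 else 40004976))) else (bif Nat.ble 5694 p then (bif Nat.ble 5698 p then (bif Nat.ble 5699 p then (bif Nat.ble 5700 p then 60003316 else 50005287) else 60005234) else (bif Nat.ble 5695 p then (bif Nat.ble 5697 p then 40003514 else 40001238) else 20002346)) else (bif Nat.ble 5691 p then (bif Nat.ble 5692 p then (bif Nat.ble 5693 p then 50001388 else 50009715) else 60002342) else (bif Nat.ble 5690 p then 60002907 else 50005261)))))) else (bif Nat.ble 4523 p then (bif Nat.ble 5257 p then (bif Nat.ble 5298 p then (bif Nat.ble 5349 p then (bif Nat.ble 5352 p then (bif Nat.ble 5353 p then (bif Nat.ble 5688 p then 50005240 else 10001440) else 40002352) else (bif Nat.ble 5350 p then (bif Nat.ble 5351 p then 60004116 else 10001715) else 60003159)) else (bif Nat.ble 5300 p then (bif Nat.ble 5347 p then (bif Nat.ble 5348 p then 50004974 else 10002900) else 50004277) else (bif Nat.ble 5299 p then 50000884 else 30001562))) else (bif Nat.ble 5262 p then (bif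 Nat.ble 5287 p then (bif Nat.ble 5288 p then (bif Nat.ble 5289 p then 60001715 else 40005235) else 9715) else (bif Nat.ble 5263 p then (bif Nat.ble 5286 p then 50003844 else 50006625) else 10001871)) else (bif Nat.ble 5259 p then (bif Nat.ble 5260 p then (bif Nat.ble 5261 p then 10007109 else 20008063) else 20003142) else (bif Nat.ble 5258 p then 30002667 else 60007990)))) else (bif Nat.ble 4972 p then (bif Nat.ble 5234 p then (bif Nat.ble 5238 p then (bif Nat.ble 5240 p then (bif Nat.ble 5256 p then 30004243 else 20004518) else 10000429) else (bif Nat.ble 5235 p then (bif Nat.ble 5237 p then 50001970 else 30002352) else 30003851)) else (bif Nat.ble 4975 p then (bif Nat.ble 4976 p then (bif Nat.ble 5233 p then 50001890 else 6554) else 30004232) else (bif Nat.ble 4974 p then 20006631 else 40002341))) else (bif Nat.ble 4966 p then (bif Nat.ble 4969 p then (bif Nat.ble 4970 p then (bif Nat.ble 4971 p then 40002899 else 50003160) else 20007999) else (bif Nat.ble 4967 p then (bif Nat.ble 4968 p then 60003521 else 20001560) else 50001226)) else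 (bif Nat.ble 4525 p then (bif Nat.ble 4964 p then (bif Nat.ble 4965 p then 1877 else 60001388) else 20000620) else (bif Nat.ble 4524 p then 60004232 else 10000800))))) else (bif Nat.ble 4140 p then (bif Nat.ble 4277 p then (bif Nat.ble 4517 p then (bif Nat.ble 4520 p then (bif Nat.ble 4521 p then (bif Nat.ble 4522 p then 0 else 40007995) else 30001969) else (bif Nat.ble 4518 p then (bif Nat.ble 4519 p then 30001122 else 4523) else 50002345)) else (bif Nat.ble 4279 p then (bif Nat.ble 4515 p then (bif Nat.ble 4516 p then 20005238 else 60002141) else 50005298) else (bif Nat.ble 4278 p then 60003138 else 10002140))) else (bif Nat.ble 4235 p then (bif Nat.ble 4243 p then (bif Nat.ble 4275 p then (bif Nat.ble 4276 p then 60004137 else 30000995) else 0) else (bif Nat.ble 4236 p then (bif Nat.ble 4242 p then 40002326 else 20004277) else 50007109)) else (bif Nat.ble 4232 p then (bif Nat.ble 4233 p then (bif Nat.ble 4234 p then 60001698 else 50002145) else 50001375) else (bif Nat.ble 4141 p then 10002144 else 20001441)))) else (bif Nat.ble 4117 p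 then (bif Nat.ble 4134 p then (bif Nat.ble 4137 p then (bif Nat.ble 4138 p then (bif Nat.ble 4139 p then 30002898 else 50006295) else 50004275) else (bif Nat.ble 4135 p then (bif Nat.ble 4136 p then 50004523 else 60005695) else 30003519)) else (bif Nat.ble 4131 p then (bif Nat.ble 4132 p then (bif Nat.ble 4133 p then 60005693 else 10002668) else 30005300) else (bif Nat.ble 4119 p then 50000707 else 50000885))) else (bif Nat.ble 3852 p then (bif Nat.ble 4111 p then (bif Nat.ble 4113 p then (bif Nat.ble 4116 p then 30003164 else 60008007) else 10002519) else (bif Nat.ble 4108 p then (bif Nat.ble 4109 p then 30003139 else 20001877) else 60001713)) else (bif Nat.ble 3849 p then (bif Nat.ble 3850 p then (bif Nat.ble 3851 p then 50001871 else 60003153) else 40000884) else (bif Nat.ble 3848 p then 0 else 30001865))))))) else (bif Nat.ble 2343 p then (bif Nat.ble 3138 p then (bif Nat.ble 3321 p then (bif Nat.ble 3519 p then (bif Nat.ble 3841 p then (bif Nat.ble 3844 p then (bif Nat.ble 3845 p then (bif Nat.ble 3846 p then 50005701 else 3520) else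 5352) else (bif Nat.ble 3842 p then (bif Nat.ble 3843 p then 5353 else 50001700) else 30002345)) else (bif Nat.ble 3521 p then (bif Nat.ble 3839 p then (bif Nat.ble 3840 p then 50005258 else 40002522) else 50002350) else (bif Nat.ble 3520 p then 40002345 else 60011589))) else (bif Nat.ble 3349 p then (bif Nat.ble 3516 p then (bif Nat.ble 3517 p then (bif Nat.ble 3518 p then 10003319 else 50003158) else 60000560) else (bif Nat.ble 3514 p then (bif Nat.ble 3515 p then 60002900 else 30002522) else 30003322)) else (bif Nat.ble 3326 p then (bif Nat.ble 3347 p then (bif Nat.ble 3348 p then 40000429 else 20009769) else 60000621) else (bif Nat.ble 3322 p then 60003162 else 60003160)))) else (bif Nat.ble 3160 p then (bif Nat.ble 3165 p then (bif Nat.ble 3318 p then (bif Nat.ble 3319 p then (bif Nat.ble 3320 p then 50006540 else 30002664) else 50002330) else (bif Nat.ble 3316 p then (bif Nat.ble 3317 p then 40004516 else 30004117) else 60006292)) else (bif Nat.ble 3162 p then (bif Nat.ble 3163 p then (bif Nat.ble 3164 p then 50007995 else 60005288)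 else 50007111) else (bif Nat.ble 3161 p then 30002328 else 30002138))) else (bif Nat.ble 3154 p then (bif Nat.ble 3157 p then (bif Nat.ble 3158 p then (bif Nat.ble 3159 p then 30009768 else 20006295) else 60008057) else (bif Nat.ble 3155 p then (bif Nat.ble 3156 p then 50004236 else 60004520) else 10002145)) else (bif Nat.ble 3142 p then (bif Nat.ble 3152 p then (bif Nat.ble 3153 p then 30005692 else 50006290) else 10004975) else (bif Nat.ble 3139 p then 60006555 else 30004141))))) else (bif Nat.ble 2543 p then (bif Nat.ble 2901 p then (bif Nat.ble 2906 p then (bif Nat.ble 3132 p then (bif Nat.ble 3135 p then (bif Nat.ble 3137 p then 40000620 else 30002516) else 50003514) else (bif Nat.ble 2907 p then (bif Nat.ble 3130 p then 60001375 else 30006502) else 20006290)) else (bif Nat.ble 2903 p then (bif Nat.ble 2904 p then (bif Nat.ble 2905 p then 50002352 else 50000800) else 60001372) else (bif Nat.ble 2902 p then 60000743 else 60003514))) else (bif Nat.ble 2667 p then (bif Nat.ble 2898 p then (bif Nat.ble 2899 p then (bif Nat.ble 2900 p then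 30003156 else 4111) else 60006527) else (bif Nat.ble 2668 p then (bif Nat.ble 2897 p then 30007107 else 30005299) else 60009592)) else (bif Nat.ble 2664 p then (bif Nat.ble 2665 p then (bif Nat.ble 2666 p then 10007111 else 4277) else 60003843) else (bif Nat.ble 2663 p then 40005238 else 20003154)))) else (bif Nat.ble 2514 p then (bif Nat.ble 2521 p then (bif Nat.ble 2525 p then (bif Nat.ble 2528 p then (bif Nat.ble 2542 p then 30001387 else 20004523) else 30006523) else (bif Nat.ble 2522 p then (bif Nat.ble 2524 p then 50001237 else 10006630) else 20001226)) else (bif Nat.ble 2516 p then (bif Nat.ble 2519 p then (bif Nat.ble 2520 p then 60006624 else 30006512) else 50004518) else (bif Nat.ble 2515 p then 40004518 else 50001043))) else (bif Nat.ble 2348 p then (bif Nat.ble 2351 p then (bif Nat.ble 2352 p then (bif Nat.ble 2513 p then 40001370 else 10007995) else 60006540) else (bif Nat.ble 2349 p then (bif Nat.ble 2350 p then 40002666 else 50004109) else 60001123)) else (bif Nat.ble 2345 p then (bif Nat.ble 2346 p then (bif Nat.ble 2347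 p then 50006631 else 10000873) else 10005240) else (bif Nat.ble 2344 p then 60007111 else 20001890)))))) else (bif Nat.ble 1560 p then (bif Nat.ble 1877 p then (bif Nat.ble 2141 p then (bif Nat.ble 2322 p then (bif Nat.ble 2330 p then (bif Nat.ble 2341 p then (bif Nat.ble 2342 p then 30005699 else 3154) else 30003130) else (bif Nat.ble 2326 p then (bif Nat.ble 2328 p then 60005353 else 1560) else 50003520)) else (bif Nat.ble 2143 p then (bif Nat.ble 2144 p then (bif Nat.ble 2145 p then 30006553 else 20004965) else 40001123) else (bif Nat.ble 2142 p then 0 else 30004136))) else (bif Nat.ble 1970 p then (bif Nat.ble 2138 p then (bif Nat.ble 2139 p then (bif Nat.ble 2140 p then 30007105 else 50003138) else 10000884) else (bif Nat.ble 1971 p then (bif Nat.ble 1972 p then 40001867 else 30000494) else 30004234)) else (bif Nat.ble 1889 p then (bif Nat.ble 1890 p then (bif Nat.ble 1969 p then 50008004 else 10002525) else 30006537) else (bif Nat.ble 1880 p then 30008000 else 10002542)))) else (bif Nat.ble 1718 p then (bif Nat.ble 1865 p then (bif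 Nat.ble 1872 p then (bif Nat.ble 1873 p then (bif Nat.ble 1874 p then 60008707 else 60008054) else 50002525) else (bif Nat.ble 1867 p then (bif Nat.ble 1871 p then 20002341 else 5261) else 50003518)) else (bif Nat.ble 1720 p then (bif Nat.ble 1862 p then (bif Nat.ble 1864 p then 30003846 else 50003319) else 40006630) else (bif Nat.ble 1719 p then 40001441 else 50005352))) else (bif Nat.ble 1712 p then (bif Nat.ble 1715 p then (bif Nat.ble 1716 p then (bif Nat.ble 1717 p then 50005695 else 40004525) else 30006297) else (bif Nat.ble 1713 p then (bif Nat.ble 1714 p then 50009770 else 4132) else 30003516)) else (bif Nat.ble 1562 p then (bif Nat.ble 1698 p then (bif Nat.ble 1700 p then 30002348 else 10003316) else 60002350) else (bif Nat.ble 1561 p then 60001864 else 10008055))))) else (bif Nat.ble 1123 p then (bif Nat.ble 1372 p then (bif Nat.ble 1388 p then (bif Nat.ble 1442 p then (bif Nat.ble 1558 p then (bif Nat.ble 1559 p then 0 else 30002347) else 50003161) else (bif Nat.ble 1440 p then (bif Nat.ble 1441 p then 1226 else 30003517) else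 0)) else (bif Nat.ble 1375 p then (bif Nat.ble 1380 p then (bif Nat.ble 1387 p then 60001717 else 6290) else 2350) else (bif Nat.ble 1373 p then 60009769 else 10006292))) else (bif Nat.ble 1239 p then (bif Nat.ble 1362 p then (bif Nat.ble 1364 p then (bif Nat.ble 1370 p then 1890 else 30002903) else 60001440) else (bif Nat.ble 1240 p then (bif Nat.ble 1241 p then 50004976 else 60002139) else 50006554)) else (bif Nat.ble 1226 p then (bif Nat.ble 1237 p then (bif Nat.ble 1238 p then 30005238 else 30002902) else 10004109) else (bif Nat.ble 1124 p then 50003845 else 1698)))) else (bif Nat.ble 873 p then (bif Nat.ble 993 p then (bif Nat.ble 1042 p then (bif Nat.ble 1043 p then (bif Nat.ble 1122 p then 60000984 else 40005240) else 60002143) else (bif Nat.ble 995 p then (bif Nat.ble 1006 p then 50003154 else 10006538) else 30000799)) else (bif Nat.ble 884 p then (bif Nat.ble 885 p then (bif Nat.ble 984 p then 50005697 else 20006554) else 20004976) else (bif Nat.ble 883 p then 60006291 else 30001240))) else (bif Nat.ble 695 p then (bif Nat.ble 743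 p then (bif Nat.ble 799 p then (bif Nat.ble 800 p then 30006526 else 60002666) else 10004520) else (bif Nat.ble 707 p then 30001042 else 60004275)) else (bif Nat.ble 560 p then (bif Nat.ble 620 p then (bif Nat.ble 621 p then 30007834 else 7999) else 50005256) else (bif Nat.ble 494 p then 60005347 else 0))))))))

/-- The depth of a point. -/
def depT (p : Nat) : Nat := (bif Nat.ble 3847 p then (bif Nat.ble 5689 p then (bif Nat.ble 6627 p then (bif Nat.ble 8003 p then (bif Nat.ble 8706 p then (bif Nat.ble 9715 p then (bif Nat.ble 9770 p then (bif Nat.ble 9771 p then (bif Nat.ble 11589 p then 3 else 18) else 10) else (bif Nat.ble 9768 p then (bif Nat.ble 9769 p then 22 else 17) else 18)) else (bif Nat.ble 8708 p then (bif Nat.ble 9592 p then (bif Nat.ble 9714 p then 15 else 19) else 16) else (bif Nat.ble 8707 p then 17 else 11))) else (bif Nat.ble 8056 p then (bif Nat.ble 8061 p then (bif Nat.ble 8062 p then (bif Nat.ble 8063 p then 6 else 14) else 11) else (bif Nat.ble 8057 p then (bif Nat.ble 8060 p then 5 else 16) else 9)) else (bif Nat.ble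 8007 p then (bif Nat.ble 8054 p then (bif Nat.ble 8055 p then 7 else 15) else 13) else (bif Nat.ble 8004 p then 15 else 14)))) else (bif Nat.ble 7110 p then (bif Nat.ble 7991 p then (bif Nat.ble 8000 p then (bif Nat.ble 8001 p then (bif Nat.ble 8002 p then 13 else 14) else 18) else (bif Nat.ble 7995 p then (bif Nat.ble 7999 p then 7 else 15) else 10)) else (bif Nat.ble 7112 p then (bif Nat.ble 7834 p then (bif Nat.ble 7990 p then 15 else 13) else 20) else (bif Nat.ble 7111 p then 3 else 5))) else (bif Nat.ble 7104 p then (bif Nat.ble 7107 p then (bif Nat.ble 7108 p then (bif Nat.ble 7109 p then 8 else 2) else 16) else (bif Nat.ble 7105 p then (bif Nat.ble 7106 p then 19 else 11) else 20)) else (bif Nat.ble 6629 p then (bif Nat.ble 6630 p then (bif Nat.ble 6631 p then 22 else 10) else 16) else (bif Nat.ble 6628 p then 1 else 20))))) else (bif Nat.ble 6506 p then (bif Nat.ble 6539 p then (bif Nat.ble 6553 p then (bif Nat.ble 6623 p then (bif Nat.ble 6624 p then (bif Nat.ble 6625 p then 17 else 5) else 7) else (bif Nat.ble 6554 p then (bif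 Nat.ble 6555 p then 7 else 10) else 9)) else (bif Nat.ble 6541 p then (bif Nat.ble 6542 p then (bif Nat.ble 6552 p then 13 else 3) else 9) else (bif Nat.ble 6540 p then 2 else 17))) else (bif Nat.ble 6524 p then (bif Nat.ble 6527 p then (bif Nat.ble 6537 p then (bif Nat.ble 6538 p then 11 else 14) else 6) else (bif Nat.ble 6525 p then (bif Nat.ble 6526 p then 10 else 18) else 15)) else (bif Nat.ble 6512 p then (bif Nat.ble 6522 p then (bif Nat.ble 6523 p then 6 else 14) else 4) else (bif Nat.ble 6509 p then 16 else 12)))) else (bif Nat.ble 5701 p then (bif Nat.ble 6295 p then (bif Nat.ble 6502 p then (bif Nat.ble 6504 p then (bif Nat.ble 6505 p then 12 else 16) else 13) else (bif Nat.ble 6296 p then (bif Nat.ble 6297 p then 15 else 4) else 9)) else (bif Nat.ble 6291 p then (bif Nat.ble 6292 p then (bif Nat.ble 6293 p then 15 else 15) else 12) else (bif Nat.ble 6290 p then 9 else 12))) else (bif Nat.ble 5694 p then (bif Nat.ble 5698 p then (bif Nat.ble 5699 p then (bif Nat.ble 5700 p then 14 else 20) else 16) else (bif Nat.ble 5695 p then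 (bif Nat.ble 5697 p then 13 else 3) else 16)) else (bif Nat.ble 5691 p then (bif Nat.ble 5692 p then (bif Nat.ble 5693 p then 1 else 19) else 22) else (bif Nat.ble 5690 p then 15 else 10)))))) else (bif Nat.ble 4523 p then (bif Nat.ble 5257 p then (bif Nat.ble 5298 p then (bif Nat.ble 5349 p then (bif Nat.ble 5352 p then (bif Nat.ble 5353 p then (bif Nat.ble 5688 p then 15 else 13) else 17) else (bif Nat.ble 5350 p then (bif Nat.ble 5351 p then 18 else 17) else 19)) else (bif Nat.ble 5300 p then (bif Nat.ble 5347 p then (bif Nat.ble 5348 p then 24 else 17) else 14) else (bif Nat.ble 5299 p then 13 else 7))) else (bif Nat.ble 5262 p then (bif Nat.ble 5287 p then (bif Nat.ble 5288 p then (bif Nat.ble 5289 p then 17 else 18) else 19) else (bif Nat.ble 5263 p then (bif Nat.ble 5286 p then 19 else 18) else 14)) else (bif Nat.ble 5259 p then (bif Nat.ble 5260 p then (bif Nat.ble 5261 p then 9 else 7) else 10) else (bif Nat.ble 5258 p then 21 else 16)))) else (bif Nat.ble 4972 p then (bif Nat.ble 5234 p then (bif Nat.ble 5238 p then (bif Nat.ble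 5240 p then (bif Nat.ble 5256 p then 1 else 14) else 1) else (bif Nat.ble 5235 p then (bif Nat.ble 5237 p then 17 else 17) else 15)) else (bif Nat.ble 4975 p then (bif Nat.ble 4976 p then (bif Nat.ble 5233 p then 9 else 11) else 8) else (bif Nat.ble 4974 p then 23 else 13))) else (bif Nat.ble 4966 p then (bif Nat.ble 4969 p then (bif Nat.ble 4970 p then (bif Nat.ble 4971 p then 8 else 15) else 8) else (bif Nat.ble 4967 p then (bif Nat.ble 4968 p then 7 else 9) else 11)) else (bif Nat.ble 4525 p then (bif Nat.ble 4964 p then (bif Nat.ble 4965 p then 8 else 1) else 9) else (bif Nat.ble 4524 p then 8 else 12))))) else (bif Nat.ble 4140 p then (bif Nat.ble 4277 p then (bif Nat.ble 4517 p then (bif Nat.ble 4520 p then (bif Nat.ble 4521 p then (bif Nat.ble 4522 p then 0 else 16) else 17) else (bif Nat.ble 4518 p then (bif Nat.ble 4519 p then 16 else 13) else 16)) else (bif Nat.ble 4279 p then (bif Nat.ble 4515 p then (bif Nat.ble 4516 p then 2 else 15) else 8) else (bif Nat.ble 4278 p then 12 else 13))) else (bif Nat.ble 4235 p then (bif Nat.ble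 4243 p then (bif Nat.ble 4275 p then (bif Nat.ble 4276 p then 15 else 13) else 0) else (bif Nat.ble 4236 p then (bif Nat.ble 4242 p then 10 else 14) else 9)) else (bif Nat.ble 4232 p then (bif Nat.ble 4233 p then (bif Nat.ble 4234 p then 15 else 11) else 7) else (bif Nat.ble 4141 p then 10 else 12)))) else (bif Nat.ble 4117 p then (bif Nat.ble 4134 p then (bif Nat.ble 4137 p then (bif Nat.ble 4138 p then (bif Nat.ble 4139 p then 8 else 10) else 14) else (bif Nat.ble 4135 p then (bif Nat.ble 4136 p then 13 else 4) else 5)) else (bif Nat.ble 4131 p then (bif Nat.ble 4132 p then (bif Nat.ble 4133 p then 2 else 15) else 15) else (bif Nat.ble 4119 p then 19 else 12))) else (bif Nat.ble 3852 p then (bif Nat.ble 4111 p then (bif Nat.ble 4113 p then (bif Nat.ble 4116 p then 17 else 14) else 6) else (bif Nat.ble 4108 p then (bif Nat.ble 4109 p then 9 else 8) else 17)) else (bif Nat.ble 3849 p then (bif Nat.ble 3850 p then (bif Nat.ble 3851 p then 14 else 21) else 13) else (bif Nat.ble 3848 p then 0 else 19))))))) else (bif Nat.ble 2343 p then (bif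 Nat.ble 3138 p then (bif Nat.ble 3321 p then (bif Nat.ble 3519 p then (bif Nat.ble 3841 p then (bif Nat.ble 3844 p then (bif Nat.ble 3845 p then (bif Nat.ble 3846 p then 13 else 17) else 18) else (bif Nat.ble 3842 p then (bif Nat.ble 3843 p then 14 else 18) else 16)) else (bif Nat.ble 3521 p then (bif Nat.ble 3839 p then (bif Nat.ble 3840 p then 22 else 12) else 6) else (bif Nat.ble 3520 p then 16 else 4))) else (bif Nat.ble 3349 p then (bif Nat.ble 3516 p then (bif Nat.ble 3517 p then (bif Nat.ble 3518 p then 17 else 11) else 3) else (bif Nat.ble 3514 p then (bif Nat.ble 3515 p then 17 else 12) else 6)) else (bif Nat.ble 3326 p then (bif Nat.ble 3347 p then (bif Nat.ble 3348 p then 1 else 23) else 15) else (bif Nat.ble 3322 p then 5 else 15)))) else (bif Nat.ble 3160 p then (bif Nat.ble 3165 p then (bif Nat.ble 3318 p then (bif Nat.ble 3319 p then (bif Nat.ble 3320 p then 3 else 16) else 9) else (bif Nat.ble 3316 p then (bif Nat.ble 3317 p then 3 else 13) else 16)) else (bif Nat.ble 3162 p then (bif Nat.ble 3163 p then (bif Nat.ble 3164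 p then 16 else 19) else 4) else (bif Nat.ble 3161 p then 15 else 14))) else (bif Nat.ble 3154 p then (bif Nat.ble 3157 p then (bif Nat.ble 3158 p then (bif Nat.ble 3159 p then 18 else 10) else 17) else (bif Nat.ble 3155 p then (bif Nat.ble 3156 p then 15 else 18) else 11)) else (bif Nat.ble 3142 p then (bif Nat.ble 3152 p then (bif Nat.ble 3153 p then 20 else 10) else 9) else (bif Nat.ble 3139 p then 8 else 11))))) else (bif Nat.ble 2543 p then (bif Nat.ble 2901 p then (bif Nat.ble 2906 p then (bif Nat.ble 3132 p then (bif Nat.ble 3135 p then (bif Nat.ble 3137 p then 9 else 15) else 13) else (bif Nat.ble 2907 p then (bif Nat.ble 3130 p then 7 else 14) else 10)) else (bif Nat.ble 2903 p then (bif Nat.ble 2904 p then (bif Nat.ble 2905 p then 17 else 12) else 17) else (bif Nat.ble 2902 p then 19 else 13))) else (bif Nat.ble 2667 p then (bif Nat.ble 2898 p then (bif Nat.ble 2899 p then (bif Nat.ble 2900 p then 16 else 7) else 7) else (bif Nat.ble 2668 p then (bif Nat.ble 2897 p then 17 else 14) else 20)) else (bif Nat.ble 2664 p then (bif Nat.ble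 2665 p then (bif Nat.ble 2666 p then 4 else 14) else 15) else (bif Nat.ble 2663 p then 2 else 12)))) else (bif Nat.ble 2514 p then (bif Nat.ble 2521 p then (bif Nat.ble 2525 p then (bif Nat.ble 2528 p then (bif Nat.ble 2542 p then 6 else 13) else 7) else (bif Nat.ble 2522 p then (bif Nat.ble 2524 p then 21 else 11) else 11)) else (bif Nat.ble 2516 p then (bif Nat.ble 2519 p then (bif Nat.ble 2520 p then 6 else 5) else 14) else (bif Nat.ble 2515 p then 14 else 16))) else (bif Nat.ble 2348 p then (bif Nat.ble 2351 p then (bif Nat.ble 2352 p then (bif Nat.ble 2513 p then 10 else 16) else 3) else (bif Nat.ble 2349 p then (bif Nat.ble 2350 p then 5 else 10) else 16)) else (bif Nat.ble 2345 p then (bif Nat.ble 2346 p then (bif Nat.ble 2347 p then 23 else 15) else 15) else (bif Nat.ble 2344 p then 4 else 9)))))) else (bif Nat.ble 1560 p then (bif Nat.ble 1877 p then (bif Nat.ble 2141 p then (bif Nat.ble 2322 p then (bif Nat.ble 2330 p then (bif Nat.ble 2341 p then (bif Nat.ble 2342 p then 21 else 12) else 8) else (bif Nat.ble 2326 p then (bif Nat.ble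 2328 p then 14 else 9) else 17)) else (bif Nat.ble 2143 p then (bif Nat.ble 2144 p then (bif Nat.ble 2145 p then 10 else 9) else 16) else (bif Nat.ble 2142 p then 0 else 14))) else (bif Nat.ble 1970 p then (bif Nat.ble 2138 p then (bif Nat.ble 2139 p then (bif Nat.ble 2140 p then 12 else 12) else 13) else (bif Nat.ble 1971 p then (bif Nat.ble 1972 p then 11 else 19) else 16)) else (bif Nat.ble 1889 p then (bif Nat.ble 1890 p then (bif Nat.ble 1969 p then 16 else 8) else 15) else (bif Nat.ble 1880 p then 19 else 7)))) else (bif Nat.ble 1718 p then (bif Nat.ble 1865 p then (bif Nat.ble 1872 p then (bif Nat.ble 1873 p then (bif Nat.ble 1874 p then 18 else 16) else 8) else (bif Nat.ble 1867 p then (bif Nat.ble 1871 p then 13 else 10) else 18)) else (bif Nat.ble 1720 p then (bif Nat.ble 1862 p then (bif Nat.ble 1864 p then 14 else 17) else 11) else (bif Nat.ble 1719 p then 12 else 18))) else (bif Nat.ble 1712 p then (bif Nat.ble 1715 p then (bif Nat.ble 1716 p then (bif Nat.ble 1717 p then 4 else 10) else 16) else (bif Nat.ble 1713 p then (bif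 Nat.ble 1714 p then 11 else 16) else 4)) else (bif Nat.ble 1562 p then (bif Nat.ble 1698 p then (bif Nat.ble 1700 p then 17 else 14) else 6) else (bif Nat.ble 1561 p then 15 else 8))))) else (bif Nat.ble 1123 p then (bif Nat.ble 1372 p then (bif Nat.ble 1388 p then (bif Nat.ble 1442 p then (bif Nat.ble 1558 p then (bif Nat.ble 1559 p then 0 else 24) else 16) else (bif Nat.ble 1440 p then (bif Nat.ble 1441 p then 11 else 12) else 0)) else (bif Nat.ble 1375 p then (bif Nat.ble 1380 p then (bif Nat.ble 1387 p then 5 else 10) else 6) else (bif Nat.ble 1373 p then 23 else 16))) else (bif Nat.ble 1239 p then (bif Nat.ble 1362 p then (bif Nat.ble 1364 p then (bif Nat.ble 1370 p then 9 else 18) else 13) else (bif Nat.ble 1240 p then (bif Nat.ble 1241 p then 12 else 13) else 11)) else (bif Nat.ble 1226 p then (bif Nat.ble 1237 p then (bif Nat.ble 1238 p then 2 else 20) else 10) else (bif Nat.ble 1124 p then 18 else 15)))) else (bif Nat.ble 873 p then (bif Nat.ble 993 p then (bif Nat.ble 1042 p then (bif Nat.ble 1043 p then (bif Nat.ble 1122 p then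 15 else 15) else 17) else (bif Nat.ble 995 p then (bif Nat.ble 1006 p then 12 else 12) else 6)) else (bif Nat.ble 884 p then (bif Nat.ble 885 p then (bif Nat.ble 984 p then 14 else 11) else 12) else (bif Nat.ble 883 p then 13 else 14))) else (bif Nat.ble 695 p then (bif Nat.ble 743 p then (bif Nat.ble 799 p then (bif Nat.ble 800 p then 11 else 5) else 18) else (bif Nat.ble 707 p then 18 else 14)) else (bif Nat.ble 560 p then (bif Nat.ble 620 p then (bif Nat.ble 621 p then 14 else 8) else 2) else (bif Nat.ble 494 p then 18 else 0))))))))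

/-- The point of a vector code. -/
def uT (p : Nat) : Nat := (bif Nat.ble 1027 p then (bif Nat.ble 1614 p then (bif Nat.ble 1882 p then (bif Nat.ble 2023 p then (bif Nat.ble 2097 p then (bif Nat.ble 2138 p then (bif Nat.ble 2164 p then (bif Nat.ble 2168 p then (bif Nat.ble 2169 p then (bif Nat.ble 2178 p then (bif Nat.beq p 2178 then 1712 else 0) else (bif Nat.beq p 2169 then 3845 else 0)) else (bif Nat.beq p 2168 then 993 else 0)) else (bif Nat.ble 2165 p then (bif Nat.ble 2167 p then (bif Nat.beq p 2167 then 1871 else 0) else (bif Nat.beq p 2165 then 1874 else 0)) else (bif Nat.beq p 2164 then 9714 else 0))) else (bif Nat.ble 2141 p then (bif Nat.ble 2142 p then (bif Nat.ble 2151 p then (bif Nat.beq p 2151 then 1123 else 0) else (bif Nat.beq p 2142 then 4133 else 0)) else (bif Nat.beq p 2141 then 3132 else 0)) else (bif Nat.ble 2140 p then (bif Nat.beq p 2140 then 707 else 0) else (bif Nat.beq p 2138 then 3841 else 0)))) else (bif Nat.ble 2121 p then (bif Nat.ble 2127 p then (bif Nat.ble 2130 p then (bif Nat.ble 2137 p then (bif Nat.beq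 p 2137 then 2344 else 0) else (bif Nat.beq p 2130 then 6297 else 0)) else (bif Nat.beq p 2127 then 5689 else 0)) else (bif Nat.ble 2125 p then (bif Nat.ble 2126 p then (bif Nat.beq p 2126 then 1441 else 0) else (bif Nat.beq p 2125 then 1237 else 0)) else (bif Nat.beq p 2121 then 4279 else 0))) else (bif Nat.ble 2116 p then (bif Nat.ble 2117 p then (bif Nat.ble 2118 p then (bif Nat.beq p 2118 then 5350 else 0) else (bif Nat.beq p 2117 then 3155 else 0)) else (bif Nat.beq p 2116 then 4518 else 0)) else (bif Nat.ble 2106 p then (bif Nat.beq p 2106 then 5256 else 0) else (bif Nat.beq p 2097 then 2322 else 0))))) else (bif Nat.ble 2056 p then (bif Nat.ble 2070 p then (bif Nat.ble 2086 p then (bif Nat.ble 2087 p then (bif Nat.ble 2088 p then (bif Nat.beq p 2088 then 4521 else 0) else (bif Nat.beq p 2087 then 2144 else 0)) else (bif Nat.beq p 2086 then 1388 else 0)) else (bif Nat.ble 2083 p then (bif Nat.ble 2084 p then (bif Nat.beq p 2084 then 6502 else 0) else (bif Nat.beq p 2083 then 4111 else 0)) else (bif Nat.beq p 2070 then 1364 else 0)))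 else (bif Nat.ble 2059 p then (bif Nat.ble 2060 p then (bif Nat.ble 2061 p then (bif Nat.beq p 2061 then 5698 else 0) else (bif Nat.beq p 2060 then 6522 else 0)) else (bif Nat.beq p 2059 then 2905 else 0)) else (bif Nat.ble 2057 p then (bif Nat.beq p 2057 then 5262 else 0) else (bif Nat.beq p 2056 then 6555 else 0)))) else (bif Nat.ble 2037 p then (bif Nat.ble 2045 p then (bif Nat.ble 2046 p then (bif Nat.ble 2049 p then (bif Nat.beq p 2049 then 9715 else 0) else (bif Nat.beq p 2046 then 2898 else 0)) else (bif Nat.beq p 2045 then 1864 else 0)) else (bif Nat.ble 2040 p then (bif Nat.ble 2044 p then (bif Nat.beq p 2044 then 1862 else 0) else (bif Nat.beq p 2040 then 2346 else 0)) else (bif Nat.beq p 2037 then 8007 else 0))) else (bif Nat.ble 2025 p then (bif Nat.ble 2035 p then (bif Nat.ble 2036 p then (bif Nat.beq p 2036 then 4524 else 0) else (bif Nat.beq p 2035 then 3848 else 0)) else (bif Nat.beq p 2025 then 7990 else 0)) else (bif Nat.ble 2024 p then (bif Nat.beq p 2024 then 1865 else 0) else (bif Nat.beq p 2023 then 6542 else 0))))))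 else (bif Nat.ble 1972 p then (bif Nat.ble 1997 p then (bif Nat.ble 2011 p then (bif Nat.ble 2015 p then (bif Nat.ble 2020 p then (bif Nat.ble 2021 p then (bif Nat.beq p 2021 then 1713 else 0) else (bif Nat.beq p 2020 then 2897 else 0)) else (bif Nat.beq p 2015 then 6628 else 0)) else (bif Nat.ble 2012 p then (bif Nat.ble 2014 p then (bif Nat.beq p 2014 then 6627 else 0) else (bif Nat.beq p 2012 then 3516 else 0)) else (bif Nat.beq p 2011 then 873 else 0))) else (bif Nat.ble 2000 p then (bif Nat.ble 2001 p then (bif Nat.ble 2004 p then (bif Nat.beq p 2004 then 799 else 0) else (bif Nat.beq p 2001 then 3850 else 0)) else (bif Nat.beq p 2000 then 3843 else 0)) else (bif Nat.ble 1999 p then (bif Nat.beq p 1999 then 4137 else 0) else (bif Nat.beq p 1997 then 4235 else 0)))) else (bif Nat.ble 1985 p then (bif Nat.ble 1993 p then (bif Nat.ble 1994 p then (bif Nat.ble 1996 p then (bif Nat.beq p 1996 then 2514 else 0) else (bif Nat.beq p 1994 then 9771 else 0)) else (bif Nat.beq p 1993 then 2341 else 0)) else (bif Nat.ble 1987 p then (bif Nat.ble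 1988 p then (bif Nat.beq p 1988 then 1715 else 0) else (bif Nat.beq p 1987 then 5352 else 0)) else (bif Nat.beq p 1985 then 1717 else 0))) else (bif Nat.ble 1974 p then (bif Nat.ble 1977 p then (bif Nat.ble 1984 p then (bif Nat.beq p 1984 then 2902 else 0) else (bif Nat.beq p 1977 then 1375 else 0)) else (bif Nat.beq p 1974 then 4141 else 0)) else (bif Nat.ble 1973 p then (bif Nat.beq p 1973 then 2519 else 0) else (bif Nat.beq p 1972 then 4515 else 0))))) else (bif Nat.ble 1922 p then (bif Nat.ble 1948 p then (bif Nat.ble 1952 p then (bif Nat.ble 1953 p then (bif Nat.ble 1962 p then (bif Nat.beq p 1962 then 885 else 0) else (bif Nat.beq p 1953 then 5349 else 0)) else (bif Nat.beq p 1952 then 1714 else 0)) else (bif Nat.ble 1949 p then (bif Nat.ble 1951 p then (bif Nat.beq p 1951 then 1042 else 0) else (bif Nat.beq p 1949 then 3164 else 0)) else (bif Nat.beq p 1948 then 2906 else 0))) else (bif Nat.ble 1925 p then (bif Nat.ble 1926 p then (bif Nat.ble 1935 p then (bif Nat.beq p 1935 then 2142 else 0) else (bif Nat.beq p 1926 then 4119 else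 0)) else (bif Nat.beq p 1925 then 1442 else 0)) else (bif Nat.ble 1924 p then (bif Nat.beq p 1924 then 4964 else 0) else (bif Nat.beq p 1922 then 3316 else 0)))) else (bif Nat.ble 1895 p then (bif Nat.ble 1899 p then (bif Nat.ble 1908 p then (bif Nat.ble 1921 p then (bif Nat.beq p 1921 then 5287 else 0) else (bif Nat.beq p 1908 then 494 else 0)) else (bif Nat.beq p 1899 then 3851 else 0)) else (bif Nat.ble 1897 p then (bif Nat.ble 1898 p then (bif Nat.beq p 1898 then 1241 else 0) else (bif Nat.beq p 1897 then 1124 else 0)) else (bif Nat.beq p 1895 then 5257 else 0))) else (bif Nat.ble 1884 p then (bif Nat.ble 1887 p then (bif Nat.ble 1894 p then (bif Nat.beq p 1894 then 4109 else 0) else (bif Nat.beq p 1887 then 2524 else 0)) else (bif Nat.beq p 1884 then 8060 else 0)) else (bif Nat.ble 1883 p then (bif Nat.beq p 1883 then 695 else 0) else (bif Nat.beq p 1882 then 2665 else 0))))))) else (bif Nat.ble 1744 p then (bif Nat.ble 1797 p then (bif Nat.ble 1840 p then (bif Nat.ble 1854 p then (bif Nat.ble 1874 p then (bif Nat.ble 1875 p then (bif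 Nat.ble 1878 p then (bif Nat.beq p 1878 then 3158 else 0) else (bif Nat.beq p 1875 then 883 else 0)) else (bif Nat.beq p 1874 then 4975 else 0)) else (bif Nat.ble 1863 p then (bif Nat.ble 1873 p then (bif Nat.beq p 1873 then 4974 else 0) else (bif Nat.beq p 1863 then 2138 else 0)) else (bif Nat.beq p 1854 then 1043 else 0))) else (bif Nat.ble 1843 p then (bif Nat.ble 1844 p then (bif Nat.ble 1845 p then (bif Nat.beq p 1845 then 3156 else 0) else (bif Nat.beq p 1844 then 1560 else 0)) else (bif Nat.beq p 1843 then 884 else 0)) else (bif Nat.ble 1841 p then (bif Nat.beq p 1841 then 5695 else 0) else (bif Nat.beq p 1840 then 1720 else 0)))) else (bif Nat.ble 1813 p then (bif Nat.ble 1817 p then (bif Nat.ble 1818 p then (bif Nat.ble 1827 p then (bif Nat.beq p 1827 then 3519 else 0) else (bif Nat.beq p 1818 then 8057 else 0)) else (bif Nat.beq p 1817 then 1558 else 0)) else (bif Nat.ble 1814 p then (bif Nat.ble 1816 p then (bif Nat.beq p 1816 then 1970 else 0) else (bif Nat.beq p 1814 then 7108 else 0)) else (bif Nat.beq p 1813 then 7105 else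 0))) else (bif Nat.ble 1802 p then (bif Nat.ble 1803 p then (bif Nat.ble 1806 p then (bif Nat.beq p 1806 then 4138 else 0) else (bif Nat.beq p 1803 then 4131 else 0)) else (bif Nat.beq p 1802 then 2667 else 0)) else (bif Nat.ble 1801 p then (bif Nat.beq p 1801 then 800 else 0) else (bif Nat.beq p 1797 then 3349 else 0))))) else (bif Nat.ble 1769 p then (bif Nat.ble 1780 p then (bif Nat.ble 1792 p then (bif Nat.ble 1793 p then (bif Nat.ble 1794 p then (bif Nat.beq p 1794 then 1370 else 0) else (bif Nat.beq p 1793 then 9770 else 0)) else (bif Nat.beq p 1792 then 2522 else 0)) else (bif Nat.ble 1781 p then (bif Nat.ble 1782 p then (bif Nat.beq p 1782 then 6539 else 0) else (bif Nat.beq p 1781 then 4523 else 0)) else (bif Nat.beq p 1780 then 7106 else 0))) else (bif Nat.ble 1772 p then (bif Nat.ble 1777 p then (bif Nat.ble 1778 p then (bif Nat.beq p 1778 then 3515 else 0) else (bif Nat.beq p 1777 then 3318 else 0)) else (bif Nat.beq p 1772 then 6630 else 0)) else (bif Nat.ble 1771 p then (bif Nat.beq p 1771 then 1238 else 0) else (bif Nat.beq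 p 1769 then 3849 else 0)))) else (bif Nat.ble 1754 p then (bif Nat.ble 1758 p then (bif Nat.ble 1761 p then (bif Nat.ble 1768 p then (bif Nat.beq p 1768 then 7999 else 0) else (bif Nat.beq p 1761 then 1226 else 0)) else (bif Nat.beq p 1758 then 2664 else 0)) else (bif Nat.ble 1756 p then (bif Nat.ble 1757 p then (bif Nat.beq p 1757 then 3153 else 0) else (bif Nat.beq p 1756 then 8061 else 0)) else (bif Nat.beq p 1754 then 3162 else 0))) else (bif Nat.ble 1750 p then (bif Nat.ble 1751 p then (bif Nat.ble 1753 p then (bif Nat.beq p 1753 then 3520 else 0) else (bif Nat.beq p 1751 then 3159 else 0)) else (bif Nat.beq p 1750 then 2901 else 0)) else (bif Nat.ble 1745 p then (bif Nat.beq p 1745 then 6506 else 0) else (bif Nat.beq p 1744 then 8062 else 0)))))) else (bif Nat.ble 1671 p then (bif Nat.ble 1706 p then (bif Nat.ble 1729 p then (bif Nat.ble 1734 p then (bif Nat.ble 1741 p then (bif Nat.ble 1742 p then (bif Nat.beq p 1742 then 2543 else 0) else (bif Nat.beq p 1741 then 3142 else 0)) else (bif Nat.beq p 1734 then 2513 else 0)) else (bif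 Nat.ble 1730 p then (bif Nat.ble 1731 p then (bif Nat.beq p 1731 then 8055 else 0) else (bif Nat.beq p 1730 then 3839 else 0)) else (bif Nat.beq p 1729 then 2343 else 0))) else (bif Nat.ble 1709 p then (bif Nat.ble 1710 p then (bif Nat.ble 1719 p then (bif Nat.beq p 1719 then 1387 else 0) else (bif Nat.beq p 1710 then 5235 else 0)) else (bif Nat.beq p 1709 then 3130 else 0)) else (bif Nat.ble 1708 p then (bif Nat.beq p 1708 then 1698 else 0) else (bif Nat.beq p 1706 then 6625 else 0)))) else (bif Nat.ble 1689 p then (bif Nat.ble 1695 p then (bif Nat.ble 1698 p then (bif Nat.ble 1705 p then (bif Nat.beq p 1705 then 2141 else 0) else (bif Nat.beq p 1698 then 6538 else 0)) else (bif Nat.beq p 1695 then 6629 else 0)) else (bif Nat.ble 1693 p then (bif Nat.ble 1694 p then (bif Nat.beq p 1694 then 2350 else 0) else (bif Nat.beq p 1693 then 1890 else 0)) else (bif Nat.beq p 1689 then 3154 else 0))) else (bif Nat.ble 1684 p then (bif Nat.ble 1685 p then (bif Nat.ble 1686 p then (bif Nat.beq p 1686 then 1362 else 0) else (bif Nat.beq p 1685 then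 9769 else 0)) else (bif Nat.beq p 1684 then 7991 else 0)) else (bif Nat.ble 1674 p then (bif Nat.beq p 1674 then 3844 else 0) else (bif Nat.beq p 1671 then 5233 else 0))))) else (bif Nat.ble 1643 p then (bif Nat.ble 1658 p then (bif Nat.ble 1666 p then (bif Nat.ble 1667 p then (bif Nat.ble 1668 p then (bif Nat.beq p 1668 then 1969 else 0) else (bif Nat.beq p 1667 then 1880 else 0)) else (bif Nat.beq p 1666 then 1719 else 0)) else (bif Nat.ble 1659 p then (bif Nat.ble 1662 p then (bif Nat.beq p 1662 then 5701 else 0) else (bif Nat.beq p 1659 then 2326 else 0)) else (bif Nat.beq p 1658 then 1716 else 0))) else (bif Nat.ble 1646 p then (bif Nat.ble 1647 p then (bif Nat.ble 1657 p then (bif Nat.beq p 1657 then 8056 else 0) else (bif Nat.beq p 1647 then 1873 else 0)) else (bif Nat.beq p 1646 then 5691 else 0)) else (bif Nat.ble 1645 p then (bif Nat.beq p 1645 then 6292 else 0) else (bif Nat.beq p 1643 then 1559 else 0)))) else (bif Nat.ble 1626 p then (bif Nat.ble 1636 p then (bif Nat.ble 1637 p then (bif Nat.ble 1642 p then (bif Nat.beq p 1642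 then 5353 else 0) else (bif Nat.beq p 1637 then 7110 else 0)) else (bif Nat.beq p 1636 then 4132 else 0)) else (bif Nat.ble 1633 p then (bif Nat.ble 1634 p then (bif Nat.beq p 1634 then 1700 else 0) else (bif Nat.beq p 1633 then 984 else 0)) else (bif Nat.beq p 1626 then 1889 else 0))) else (bif Nat.ble 1621 p then (bif Nat.ble 1622 p then (bif Nat.ble 1623 p then (bif Nat.beq p 1623 then 5697 else 0) else (bif Nat.beq p 1622 then 2520 else 0)) else (bif Nat.beq p 1621 then 4516 else 0)) else (bif Nat.ble 1617 p then (bif Nat.beq p 1617 then 2351 else 0) else (bif Nat.beq p 1614 then 1373 else 0)))))))) else (bif Nat.ble 1308 p then (bif Nat.ble 1477 p then (bif Nat.ble 1555 p then (bif Nat.ble 1585 p then (bif Nat.ble 1603 p then (bif Nat.ble 1608 p then (bif Nat.ble 1612 p then (bif Nat.ble 1613 p then (bif Nat.beq p 1613 then 1440 else 0) else (bif Nat.beq p 1612 then 2139 else 0)) else (bif Nat.beq p 1608 then 7112 else 0)) else (bif Nat.ble 1604 p then (bif Nat.ble 1605 p then (bif Nat.beq p 1605 then 1562 else 0) else (bif Nat.beq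 p 1604 then 3135 else 0)) else (bif Nat.beq p 1603 then 6524 else 0))) else (bif Nat.ble 1587 p then (bif Nat.ble 1590 p then (bif Nat.ble 1593 p then (bif Nat.beq p 1593 then 2663 else 0) else (bif Nat.beq p 1590 then 6296 else 0)) else (bif Nat.beq p 1587 then 4967 else 0)) else (bif Nat.ble 1586 p then (bif Nat.beq p 1586 then 620 else 0) else (bif Nat.beq p 1585 then 1122 else 0)))) else (bif Nat.ble 1565 p then (bif Nat.ble 1577 p then (bif Nat.ble 1578 p then (bif Nat.ble 1581 p then (bif Nat.beq p 1581 then 2342 else 0) else (bif Nat.beq p 1578 then 5258 else 0)) else (bif Nat.beq p 1577 then 5300 else 0)) else (bif Nat.ble 1566 p then (bif Nat.ble 1576 p then (bif Nat.beq p 1576 then 2328 else 0) else (bif Nat.beq p 1566 then 5351 else 0)) else (bif Nat.beq p 1565 then 4972 else 0))) else (bif Nat.ble 1561 p then (bif Nat.ble 1562 p then (bif Nat.ble 1564 p then (bif Nat.beq p 1564 then 3163 else 0) else (bif Nat.beq p 1562 then 5688 else 0)) else (bif Nat.beq p 1561 then 1872 else 0)) else (bif Nat.ble 1556 p then (bif Nat.beq p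 1556 then 3152 else 0) else (bif Nat.beq p 1555 then 8708 else 0))))) else (bif Nat.ble 1517 p then (bif Nat.ble 1540 p then (bif Nat.ble 1545 p then (bif Nat.ble 1552 p then (bif Nat.ble 1553 p then (bif Nat.beq p 1553 then 4134 else 0) else (bif Nat.beq p 1552 then 1972 else 0)) else (bif Nat.beq p 1545 then 2347 else 0)) else (bif Nat.ble 1541 p then (bif Nat.ble 1542 p then (bif Nat.beq p 1542 then 3320 else 0) else (bif Nat.beq p 1541 then 4278 else 0)) else (bif Nat.beq p 1540 then 2140 else 0))) else (bif Nat.ble 1520 p then (bif Nat.ble 1521 p then (bif Nat.ble 1530 p then (bif Nat.beq p 1530 then 4517 else 0) else (bif Nat.beq p 1521 then 8063 else 0)) else (bif Nat.beq p 1520 then 4277 else 0)) else (bif Nat.ble 1519 p then (bif Nat.beq p 1519 then 4522 else 0) else (bif Nat.beq p 1517 then 5690 else 0)))) else (bif Nat.ble 1490 p then (bif Nat.ble 1494 p then (bif Nat.ble 1503 p then (bif Nat.ble 1516 p then (bif Nat.beq p 1516 then 3840 else 0) else (bif Nat.beq p 1503 then 1372 else 0)) else (bif Nat.beq p 1494 then 2668 else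 0)) else (bif Nat.ble 1492 p then (bif Nat.ble 1493 p then (bif Nat.beq p 1493 then 621 else 0) else (bif Nat.beq p 1492 then 3348 else 0)) else (bif Nat.beq p 1490 then 3160 else 0))) else (bif Nat.ble 1479 p then (bif Nat.ble 1482 p then (bif Nat.ble 1489 p then (bif Nat.beq p 1489 then 4968 else 0) else (bif Nat.beq p 1482 then 2899 else 0)) else (bif Nat.beq p 1479 then 2525 else 0)) else (bif Nat.ble 1478 p then (bif Nat.beq p 1478 then 995 else 0) else (bif Nat.beq p 1477 then 4108 else 0)))))) else (bif Nat.ble 1392 p then (bif Nat.ble 1435 p then (bif Nat.ble 1449 p then (bif Nat.ble 1469 p then (bif Nat.ble 1470 p then (bif Nat.ble 1473 p then (bif Nat.beq p 1473 then 8002 else 0) else (bif Nat.beq p 1470 then 1239 else 0)) else (bif Nat.beq p 1469 then 2145 else 0)) else (bif Nat.ble 1458 p then (bif Nat.ble 1468 p then (bif Nat.beq p 1468 then 6631 else 0) else (bif Nat.beq p 1458 then 3321 else 0)) else (bif Nat.beq p 1449 then 8057 else 0))) else (bif Nat.ble 1438 p then (bif Nat.ble 1439 p then (bif Nat.ble 1440 p then (bif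 Nat.beq p 1440 then 3519 else 0) else (bif Nat.beq p 1439 then 7105 else 0)) else (bif Nat.beq p 1438 then 7108 else 0)) else (bif Nat.ble 1436 p then (bif Nat.beq p 1436 then 1970 else 0) else (bif Nat.beq p 1435 then 1558 else 0)))) else (bif Nat.ble 1408 p then (bif Nat.ble 1412 p then (bif Nat.ble 1413 p then (bif Nat.ble 1422 p then (bif Nat.beq p 1422 then 3156 else 0) else (bif Nat.beq p 1413 then 1043 else 0)) else (bif Nat.beq p 1412 then 1720 else 0)) else (bif Nat.ble 1409 p then (bif Nat.ble 1411 p then (bif Nat.beq p 1411 then 5695 else 0) else (bif Nat.beq p 1409 then 884 else 0)) else (bif Nat.beq p 1408 then 1560 else 0))) else (bif Nat.ble 1397 p then (bif Nat.ble 1398 p then (bif Nat.ble 1401 p then (bif Nat.beq p 1401 then 1370 else 0) else (bif Nat.beq p 1398 then 3349 else 0)) else (bif Nat.beq p 1397 then 2522 else 0)) else (bif Nat.ble 1396 p then (bif Nat.beq p 1396 then 9770 else 0) else (bif Nat.beq p 1392 then 4131 else 0))))) else (bif Nat.ble 1341 p then (bif Nat.ble 1359 p then (bif Nat.ble 1387 p then (bif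 Nat.ble 1388 p then (bif Nat.ble 1389 p then (bif Nat.beq p 1389 then 4138 else 0) else (bif Nat.beq p 1388 then 800 else 0)) else (bif Nat.beq p 1387 then 2667 else 0)) else (bif Nat.ble 1368 p then (bif Nat.ble 1377 p then (bif Nat.beq p 1377 then 6539 else 0) else (bif Nat.beq p 1368 then 3851 else 0)) else (bif Nat.beq p 1359 then 494 else 0))) else (bif Nat.ble 1355 p then (bif Nat.ble 1357 p then (bif Nat.ble 1358 p then (bif Nat.beq p 1358 then 4109 else 0) else (bif Nat.beq p 1357 then 5257 else 0)) else (bif Nat.beq p 1355 then 1124 else 0)) else (bif Nat.ble 1354 p then (bif Nat.beq p 1354 then 1241 else 0) else (bif Nat.beq p 1341 then 4119 else 0)))) else (bif Nat.ble 1320 p then (bif Nat.ble 1330 p then (bif Nat.ble 1331 p then (bif Nat.ble 1332 p then (bif Nat.beq p 1332 then 2142 else 0) else (bif Nat.beq p 1331 then 5287 else 0)) else (bif Nat.beq p 1330 then 3316 else 0)) else (bif Nat.ble 1327 p then (bif Nat.ble 1328 p then (bif Nat.beq p 1328 then 4964 else 0) else (bif Nat.beq p 1327 then 1442 else 0)) else (bif Nat.beq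 p 1320 then 883 else 0))) else (bif Nat.ble 1315 p then (bif Nat.ble 1316 p then (bif Nat.ble 1317 p then (bif Nat.beq p 1317 then 3158 else 0) else (bif Nat.beq p 1316 then 4974 else 0)) else (bif Nat.beq p 1315 then 4975 else 0)) else (bif Nat.ble 1311 p then (bif Nat.beq p 1311 then 8060 else 0) else (bif Nat.beq p 1308 then 2524 else 0))))))) else (bif Nat.ble 1166 p then (bif Nat.ble 1256 p then (bif Nat.ble 1282 p then (bif Nat.ble 1292 p then (bif Nat.ble 1296 p then (bif Nat.ble 1306 p then (bif Nat.ble 1307 p then (bif Nat.beq p 1307 then 2665 else 0) else (bif Nat.beq p 1306 then 695 else 0)) else (bif Nat.beq p 1296 then 2138 else 0)) else (bif Nat.ble 1294 p then (bif Nat.ble 1295 p then (bif Nat.beq p 1295 then 3142 else 0) else (bif Nat.beq p 1294 then 2543 else 0)) else (bif Nat.beq p 1292 then 8062 else 0))) else (bif Nat.ble 1285 p then (bif Nat.ble 1286 p then (bif Nat.ble 1291 p then (bif Nat.beq p 1291 then 6506 else 0) else (bif Nat.beq p 1286 then 2901 else 0)) else (bif Nat.beq p 1285 then 3159 else 0)) else (bif Nat.ble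 1283 p then (bif Nat.beq p 1283 then 3520 else 0) else (bif Nat.beq p 1282 then 3162 else 0)))) else (bif Nat.ble 1267 p then (bif Nat.ble 1271 p then (bif Nat.ble 1272 p then (bif Nat.ble 1275 p then (bif Nat.beq p 1275 then 8055 else 0) else (bif Nat.beq p 1272 then 2513 else 0)) else (bif Nat.beq p 1271 then 2343 else 0)) else (bif Nat.ble 1268 p then (bif Nat.ble 1270 p then (bif Nat.beq p 1270 then 3839 else 0) else (bif Nat.beq p 1268 then 7999 else 0)) else (bif Nat.beq p 1267 then 3849 else 0))) else (bif Nat.ble 1259 p then (bif Nat.ble 1264 p then (bif Nat.ble 1265 p then (bif Nat.beq p 1265 then 1238 else 0) else (bif Nat.beq p 1264 then 6630 else 0)) else (bif Nat.beq p 1259 then 3318 else 0)) else (bif Nat.ble 1258 p then (bif Nat.beq p 1258 then 3515 else 0) else (bif Nat.beq p 1256 then 7106 else 0))))) else (bif Nat.ble 1219 p then (bif Nat.ble 1233 p then (bif Nat.ble 1245 p then (bif Nat.ble 1248 p then (bif Nat.ble 1255 p then (bif Nat.beq p 1255 then 4523 else 0) else (bif Nat.beq p 1248 then 2664 else 0)) else (bif Nat.beq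 p 1245 then 1226 else 0)) else (bif Nat.ble 1243 p then (bif Nat.ble 1244 p then (bif Nat.beq p 1244 then 8061 else 0) else (bif Nat.beq p 1243 then 3153 else 0)) else (bif Nat.beq p 1233 then 5235 else 0))) else (bif Nat.ble 1222 p then (bif Nat.ble 1223 p then (bif Nat.ble 1224 p then (bif Nat.beq p 1224 then 1387 else 0) else (bif Nat.beq p 1223 then 2141 else 0)) else (bif Nat.beq p 1222 then 6625 else 0)) else (bif Nat.ble 1220 p then (bif Nat.beq p 1220 then 1698 else 0) else (bif Nat.beq p 1219 then 3130 else 0)))) else (bif Nat.ble 1192 p then (bif Nat.ble 1196 p then (bif Nat.ble 1197 p then (bif Nat.ble 1206 p then (bif Nat.beq p 1206 then 5698 else 0) else (bif Nat.beq p 1197 then 1364 else 0)) else (bif Nat.beq p 1196 then 6555 else 0)) else (bif Nat.ble 1193 p then (bif Nat.ble 1195 p then (bif Nat.beq p 1195 then 5262 else 0) else (bif Nat.beq p 1193 then 2905 else 0)) else (bif Nat.beq p 1192 then 6522 else 0))) else (bif Nat.ble 1169 p then (bif Nat.ble 1170 p then (bif Nat.ble 1179 p then (bif Nat.beq p 1179 then 4521 else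 0) else (bif Nat.beq p 1170 then 2322 else 0)) else (bif Nat.beq p 1169 then 4111 else 0)) else (bif Nat.ble 1168 p then (bif Nat.beq p 1168 then 6502 else 0) else (bif Nat.beq p 1166 then 1388 else 0)))))) else (bif Nat.ble 1084 p then (bif Nat.ble 1125 p then (bif Nat.ble 1149 p then (bif Nat.ble 1155 p then (bif Nat.ble 1158 p then (bif Nat.ble 1165 p then (bif Nat.beq p 1165 then 2144 else 0) else (bif Nat.beq p 1158 then 8007 else 0)) else (bif Nat.beq p 1155 then 2346 else 0)) else (bif Nat.ble 1153 p then (bif Nat.ble 1154 p then (bif Nat.beq p 1154 then 3848 else 0) else (bif Nat.beq p 1153 then 4524 else 0)) else (bif Nat.beq p 1149 then 2898 else 0))) else (bif Nat.ble 1144 p then (bif Nat.ble 1145 p then (bif Nat.ble 1146 p then (bif Nat.beq p 1146 then 9715 else 0) else (bif Nat.beq p 1145 then 1862 else 0)) else (bif Nat.beq p 1144 then 1864 else 0)) else (bif Nat.ble 1134 p then (bif Nat.beq p 1134 then 7990 else 0) else (bif Nat.beq p 1125 then 4133 else 0)))) else (bif Nat.ble 1098 p then (bif Nat.ble 1114 p then (bif Nat.ble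 1115 p then (bif Nat.ble 1116 p then (bif Nat.beq p 1116 then 1123 else 0) else (bif Nat.beq p 1115 then 2344 else 0)) else (bif Nat.beq p 1114 then 3841 else 0)) else (bif Nat.ble 1111 p then (bif Nat.ble 1112 p then (bif Nat.beq p 1112 then 707 else 0) else (bif Nat.beq p 1111 then 3132 else 0)) else (bif Nat.beq p 1098 then 3845 else 0))) else (bif Nat.ble 1087 p then (bif Nat.ble 1088 p then (bif Nat.ble 1089 p then (bif Nat.beq p 1089 then 1712 else 0) else (bif Nat.beq p 1088 then 9714 else 0)) else (bif Nat.beq p 1087 then 1874 else 0)) else (bif Nat.ble 1085 p then (bif Nat.beq p 1085 then 1871 else 0) else (bif Nat.beq p 1084 then 993 else 0))))) else (bif Nat.ble 1051 p then (bif Nat.ble 1065 p then (bif Nat.ble 1073 p then (bif Nat.ble 1074 p then (bif Nat.ble 1077 p then (bif Nat.beq p 1077 then 5350 else 0) else (bif Nat.beq p 1074 then 4279 else 0)) else (bif Nat.beq p 1073 then 4518 else 0)) else (bif Nat.ble 1068 p then (bif Nat.ble 1072 p then (bif Nat.beq p 1072 then 3155 else 0) else (bif Nat.beq p 1068 then 5689 else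 0)) else (bif Nat.beq p 1065 then 6297 else 0))) else (bif Nat.ble 1053 p then (bif Nat.ble 1063 p then (bif Nat.ble 1064 p then (bif Nat.beq p 1064 then 1237 else 0) else (bif Nat.beq p 1063 then 1441 else 0)) else (bif Nat.beq p 1053 then 5256 else 0)) else (bif Nat.ble 1052 p then (bif Nat.beq p 1052 then 2902 else 0) else (bif Nat.beq p 1051 then 1717 else 0)))) else (bif Nat.ble 1040 p then (bif Nat.ble 1043 p then (bif Nat.ble 1048 p then (bif Nat.ble 1049 p then (bif Nat.beq p 1049 then 5352 else 0) else (bif Nat.beq p 1048 then 1715 else 0)) else (bif Nat.beq p 1043 then 2341 else 0)) else (bif Nat.ble 1042 p then (bif Nat.beq p 1042 then 9771 else 0) else (bif Nat.beq p 1040 then 2514 else 0))) else (bif Nat.ble 1029 p then (bif Nat.ble 1032 p then (bif Nat.ble 1039 p then (bif Nat.beq p 1039 then 4235 else 0) else (bif Nat.beq p 1032 then 4141 else 0)) else (bif Nat.beq p 1029 then 1375 else 0)) else (bif Nat.ble 1028 p then (bif Nat.beq p 1028 then 4515 else 0) else (bif Nat.beq p 1027 then 2519 else 0))))))))) else (bif Nat.ble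 523 p then (bif Nat.ble 763 p then (bif Nat.ble 904 p then (bif Nat.ble 964 p then (bif Nat.ble 1001 p then (bif Nat.ble 1015 p then (bif Nat.ble 1022 p then (bif Nat.ble 1024 p then (bif Nat.ble 1025 p then (bif Nat.beq p 1025 then 873 else 0) else (bif Nat.beq p 1024 then 3516 else 0)) else (bif Nat.beq p 1022 then 6627 else 0)) else (bif Nat.ble 1016 p then (bif Nat.ble 1021 p then (bif Nat.beq p 1021 then 6628 else 0) else (bif Nat.beq p 1016 then 2897 else 0)) else (bif Nat.beq p 1015 then 1713 else 0))) else (bif Nat.ble 1005 p then (bif Nat.ble 1012 p then (bif Nat.ble 1013 p then (bif Nat.beq p 1013 then 6542 else 0) else (bif Nat.beq p 1012 then 1865 else 0)) else (bif Nat.beq p 1005 then 3850 else 0)) else (bif Nat.ble 1002 p then (bif Nat.beq p 1002 then 799 else 0) else (bif Nat.beq p 1001 then 4137 else 0)))) else (bif Nat.ble 977 p then (bif Nat.ble 981 p then (bif Nat.ble 990 p then (bif Nat.ble 1000 p then (bif Nat.beq p 1000 then 3843 else 0) else (bif Nat.beq p 990 then 5349 else 0)) else (bif Nat.beq p 981 then 885 else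 0)) else (bif Nat.ble 979 p then (bif Nat.ble 980 p then (bif Nat.beq p 980 then 2906 else 0) else (bif Nat.beq p 979 then 3164 else 0)) else (bif Nat.beq p 977 then 1042 else 0))) else (bif Nat.ble 966 p then (bif Nat.ble 969 p then (bif Nat.ble 976 p then (bif Nat.beq p 976 then 1714 else 0) else (bif Nat.beq p 969 then 5258 else 0)) else (bif Nat.beq p 966 then 2342 else 0)) else (bif Nat.ble 965 p then (bif Nat.beq p 965 then 2328 else 0) else (bif Nat.beq p 964 then 5300 else 0))))) else (bif Nat.ble 930 p then (bif Nat.ble 942 p then (bif Nat.ble 956 p then (bif Nat.ble 957 p then (bif Nat.ble 960 p then (bif Nat.beq p 960 then 4967 else 0) else (bif Nat.beq p 957 then 6296 else 0)) else (bif Nat.beq p 956 then 1122 else 0)) else (bif Nat.ble 945 p then (bif Nat.ble 955 p then (bif Nat.beq p 955 then 620 else 0) else (bif Nat.beq p 945 then 5351 else 0)) else (bif Nat.beq p 942 then 1562 else 0))) else (bif Nat.ble 937 p then (bif Nat.ble 938 p then (bif Nat.ble 939 p then (bif Nat.beq p 939 then 7112 else 0) else (bif Nat.beq p 938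 then 6524 else 0)) else (bif Nat.beq p 937 then 3135 else 0)) else (bif Nat.ble 933 p then (bif Nat.beq p 933 then 1373 else 0) else (bif Nat.beq p 930 then 2351 else 0)))) else (bif Nat.ble 914 p then (bif Nat.ble 918 p then (bif Nat.ble 928 p then (bif Nat.ble 929 p then (bif Nat.beq p 929 then 2139 else 0) else (bif Nat.beq p 928 then 1440 else 0)) else (bif Nat.beq p 918 then 2663 else 0)) else (bif Nat.ble 916 p then (bif Nat.ble 917 p then (bif Nat.beq p 917 then 1972 else 0) else (bif Nat.beq p 916 then 4134 else 0)) else (bif Nat.beq p 914 then 8708 else 0))) else (bif Nat.ble 907 p then (bif Nat.ble 908 p then (bif Nat.ble 913 p then (bif Nat.beq p 913 then 3152 else 0) else (bif Nat.beq p 908 then 1872 else 0)) else (bif Nat.beq p 907 then 5688 else 0)) else (bif Nat.ble 905 p then (bif Nat.beq p 905 then 3163 else 0) else (bif Nat.beq p 904 then 4972 else 0)))))) else (bif Nat.ble 837 p then (bif Nat.ble 875 p then (bif Nat.ble 885 p then (bif Nat.ble 893 p then (bif Nat.ble 894 p then (bif Nat.ble 897 p then (bif Nat.beq p 897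 then 3320 else 0) else (bif Nat.beq p 894 then 2347 else 0)) else (bif Nat.beq p 893 then 2140 else 0)) else (bif Nat.ble 888 p then (bif Nat.ble 892 p then (bif Nat.beq p 892 then 4278 else 0) else (bif Nat.beq p 888 then 2326 else 0)) else (bif Nat.beq p 885 then 5701 else 0))) else (bif Nat.ble 879 p then (bif Nat.ble 883 p then (bif Nat.ble 884 p then (bif Nat.beq p 884 then 8056 else 0) else (bif Nat.beq p 883 then 1716 else 0)) else (bif Nat.beq p 879 then 1969 else 0)) else (bif Nat.ble 876 p then (bif Nat.beq p 876 then 5233 else 0) else (bif Nat.beq p 875 then 1719 else 0)))) else (bif Nat.ble 856 p then (bif Nat.ble 861 p then (bif Nat.ble 864 p then (bif Nat.ble 874 p then (bif Nat.beq p 874 then 1880 else 0) else (bif Nat.beq p 864 then 1873 else 0)) else (bif Nat.beq p 861 then 1362 else 0)) else (bif Nat.ble 857 p then (bif Nat.ble 858 p then (bif Nat.beq p 858 then 3154 else 0) else (bif Nat.beq p 857 then 7991 else 0)) else (bif Nat.beq p 856 then 9769 else 0))) else (bif Nat.ble 848 p then (bif Nat.ble 849 p then (bif Nat.ble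 852 p then (bif Nat.beq p 852 then 6629 else 0) else (bif Nat.beq p 849 then 6538 else 0)) else (bif Nat.beq p 848 then 1890 else 0)) else (bif Nat.ble 847 p then (bif Nat.beq p 847 then 2350 else 0) else (bif Nat.beq p 837 then 3844 else 0))))) else (bif Nat.ble 812 p then (bif Nat.ble 826 p then (bif Nat.ble 833 p then (bif Nat.ble 835 p then (bif Nat.ble 836 p then (bif Nat.beq p 836 then 984 else 0) else (bif Nat.beq p 835 then 1700 else 0)) else (bif Nat.beq p 833 then 4132 else 0)) else (bif Nat.ble 827 p then (bif Nat.ble 832 p then (bif Nat.beq p 832 then 7110 else 0) else (bif Nat.beq p 827 then 5353 else 0)) else (bif Nat.beq p 826 then 1559 else 0))) else (bif Nat.ble 816 p then (bif Nat.ble 823 p then (bif Nat.ble 824 p then (bif Nat.beq p 824 then 6292 else 0) else (bif Nat.beq p 823 then 5691 else 0)) else (bif Nat.beq p 816 then 5697 else 0)) else (bif Nat.ble 813 p then (bif Nat.beq p 813 then 1889 else 0) else (bif Nat.beq p 812 then 4516 else 0)))) else (bif Nat.ble 788 p then (bif Nat.ble 792 p then (bif Nat.ble 801 p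 then (bif Nat.ble 811 p then (bif Nat.beq p 811 then 2520 else 0) else (bif Nat.beq p 801 then 2668 else 0)) else (bif Nat.beq p 792 then 1372 else 0)) else (bif Nat.ble 790 p then (bif Nat.ble 791 p then (bif Nat.beq p 791 then 4968 else 0) else (bif Nat.beq p 790 then 3160 else 0)) else (bif Nat.beq p 788 then 3348 else 0))) else (bif Nat.ble 765 p then (bif Nat.ble 774 p then (bif Nat.ble 787 p then (bif Nat.beq p 787 then 621 else 0) else (bif Nat.beq p 774 then 8063 else 0)) else (bif Nat.beq p 765 then 4517 else 0)) else (bif Nat.ble 764 p then (bif Nat.beq p 764 then 3840 else 0) else (bif Nat.beq p 763 then 5690 else 0))))))) else (bif Nat.ble 644 p then (bif Nat.ble 704 p then (bif Nat.ble 729 p then (bif Nat.ble 748 p then (bif Nat.ble 753 p then (bif Nat.ble 760 p then (bif Nat.ble 761 p then (bif Nat.beq p 761 then 4522 else 0) else (bif Nat.beq p 760 then 4277 else 0)) else (bif Nat.beq p 753 then 1239 else 0)) else (bif Nat.ble 749 p then (bif Nat.ble 750 p then (bif Nat.beq p 750 then 8002 else 0) else (bif Nat.beq p 749 then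 6631 else 0)) else (bif Nat.beq p 748 then 2145 else 0))) else (bif Nat.ble 740 p then (bif Nat.ble 741 p then (bif Nat.ble 744 p then (bif Nat.beq p 744 then 2525 else 0) else (bif Nat.beq p 741 then 2899 else 0)) else (bif Nat.beq p 740 then 4108 else 0)) else (bif Nat.ble 739 p then (bif Nat.beq p 739 then 995 else 0) else (bif Nat.beq p 729 then 3321 else 0)))) else (bif Nat.ble 718 p then (bif Nat.ble 725 p then (bif Nat.ble 727 p then (bif Nat.ble 728 p then (bif Nat.beq p 728 then 2521 else 0) else (bif Nat.beq p 727 then 9768 else 0)) else (bif Nat.beq p 725 then 2348 else 0)) else (bif Nat.ble 719 p then (bif Nat.ble 724 p then (bif Nat.beq p 724 then 1380 else 0) else (bif Nat.beq p 719 then 9592 else 0)) else (bif Nat.beq p 718 then 2528 else 0))) else (bif Nat.ble 708 p then (bif Nat.ble 715 p then (bif Nat.ble 716 p then (bif Nat.beq p 716 then 5693 else 0) else (bif Nat.beq p 715 then 6509 else 0)) else (bif Nat.beq p 708 then 7111 else 0)) else (bif Nat.ble 705 p then (bif Nat.beq p 705 then 4969 else 0) else (bif Nat.beq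 p 704 then 3137 else 0))))) else (bif Nat.ble 678 p then (bif Nat.ble 692 p then (bif Nat.ble 700 p then (bif Nat.ble 701 p then (bif Nat.ble 703 p then (bif Nat.beq p 703 then 6537 else 0) else (bif Nat.beq p 701 then 4966 else 0)) else (bif Nat.beq p 700 then 3157 else 0)) else (bif Nat.ble 697 p then (bif Nat.ble 698 p then (bif Nat.beq p 698 then 2542 else 0) else (bif Nat.beq p 697 then 1867 else 0)) else (bif Nat.beq p 692 then 8000 else 0))) else (bif Nat.ble 688 p then (bif Nat.ble 689 p then (bif Nat.ble 691 p then (bif Nat.beq p 691 then 11589 else 0) else (bif Nat.beq p 689 then 2352 else 0)) else (bif Nat.beq p 688 then 4520 else 0)) else (bif Nat.ble 681 p then (bif Nat.beq p 681 then 4136 else 0) else (bif Nat.beq p 678 then 5259 else 0)))) else (bif Nat.ble 655 p then (bif Nat.ble 666 p then (bif Nat.ble 676 p then (bif Nat.ble 677 p then (bif Nat.beq p 677 then 3347 else 0) else (bif Nat.beq p 676 then 2330 else 0)) else (bif Nat.beq p 666 then 5263 else 0)) else (bif Nat.ble 656 p then (bif Nat.ble 657 p then (bif Nat.beq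 p 657 then 5238 else 0) else (bif Nat.beq p 656 then 3319 else 0)) else (bif Nat.beq p 655 then 8707 else 0))) else (bif Nat.ble 647 p then (bif Nat.ble 652 p then (bif Nat.ble 653 p then (bif Nat.beq p 653 then 4135 else 0) else (bif Nat.beq p 652 then 5692 else 0)) else (bif Nat.beq p 647 then 6553 else 0)) else (bif Nat.ble 646 p then (bif Nat.beq p 646 then 5237 else 0) else (bif Nat.beq p 644 then 1971 else 0)))))) else (bif Nat.ble 585 p then (bif Nat.ble 619 p then (bif Nat.ble 627 p then (bif Nat.ble 637 p then (bif Nat.ble 638 p then (bif Nat.ble 643 p then (bif Nat.beq p 643 then 6291 else 0) else (bif Nat.beq p 638 then 4275 else 0)) else (bif Nat.beq p 637 then 429 else 0)) else (bif Nat.ble 634 p then (bif Nat.ble 635 p then (bif Nat.beq p 635 then 5234 else 0) else (bif Nat.beq p 634 then 6523 else 0)) else (bif Nat.beq p 627 then 3139 else 0))) else (bif Nat.ble 622 p then (bif Nat.ble 623 p then (bif Nat.ble 624 p then (bif Nat.beq p 624 then 3518 else 0) else (bif Nat.beq p 623 then 6525 else 0)) else (bif Nat.beq p 622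 then 6552 else 0)) else (bif Nat.ble 620 p then (bif Nat.beq p 620 then 6527 else 0) else (bif Nat.beq p 619 then 5299 else 0)))) else (bif Nat.ble 607 p then (bif Nat.ble 611 p then (bif Nat.ble 616 p then (bif Nat.ble 617 p then (bif Nat.beq p 617 then 1718 else 0) else (bif Nat.beq p 616 then 1561 else 0)) else (bif Nat.beq p 611 then 4113 else 0)) else (bif Nat.ble 608 p then (bif Nat.ble 610 p then (bif Nat.beq p 610 then 5347 else 0) else (bif Nat.beq p 608 then 4236 else 0)) else (bif Nat.beq p 607 then 4232 else 0))) else (bif Nat.ble 596 p then (bif Nat.ble 597 p then (bif Nat.ble 600 p then (bif Nat.beq p 600 then 4971 else 0) else (bif Nat.beq p 597 then 7109 else 0)) else (bif Nat.beq p 596 then 7834 else 0)) else (bif Nat.ble 595 p then (bif Nat.beq p 595 then 5260 else 0) else (bif Nat.beq p 585 then 1877 else 0))))) else (bif Nat.ble 552 p then (bif Nat.ble 564 p then (bif Nat.ble 574 p then (bif Nat.ble 575 p then (bif Nat.ble 576 p then (bif Nat.beq p 576 then 7995 else 0) else (bif Nat.beq p 575 then 6295 else 0)) else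 (bif Nat.beq p 574 then 4117 else 0)) else (bif Nat.ble 571 p then (bif Nat.ble 572 p then (bif Nat.beq p 572 then 5700 else 0) else (bif Nat.beq p 571 then 2904 else 0)) else (bif Nat.beq p 564 then 4976 else 0))) else (bif Nat.ble 559 p then (bif Nat.ble 560 p then (bif Nat.ble 561 p then (bif Nat.beq p 561 then 4242 else 0) else (bif Nat.beq p 560 then 4525 else 0)) else (bif Nat.beq p 559 then 2349 else 0)) else (bif Nat.ble 555 p then (bif Nat.beq p 555 then 743 else 0) else (bif Nat.beq p 552 then 6623 else 0)))) else (bif Nat.ble 533 p then (bif Nat.ble 540 p then (bif Nat.ble 550 p then (bif Nat.ble 551 p then (bif Nat.beq p 551 then 2515 else 0) else (bif Nat.beq p 550 then 5289 else 0)) else (bif Nat.beq p 540 then 4234 else 0)) else (bif Nat.ble 534 p then (bif Nat.ble 537 p then (bif Nat.beq p 537 then 3161 else 0) else (bif Nat.beq p 534 then 6526 else 0)) else (bif Nat.beq p 533 then 8706 else 0))) else (bif Nat.ble 525 p then (bif Nat.ble 528 p then (bif Nat.ble 532 p then (bif Nat.beq p 532 then 5699 else 0) else (bif Nat.beq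 p 528 then 4519 else 0)) else (bif Nat.beq p 525 then 3514 else 0)) else (bif Nat.ble 524 p then (bif Nat.beq p 524 then 3322 else 0) else (bif Nat.beq p 523 then 3317 else 0)))))))) else (bif Nat.ble 282 p then (bif Nat.ble 404 p then (bif Nat.ble 465 p then (bif Nat.ble 489 p then (bif Nat.ble 503 p then (bif Nat.ble 511 p then (bif Nat.ble 512 p then (bif Nat.ble 513 p then (bif Nat.beq p 513 then 2143 else 0) else (bif Nat.beq p 512 then 2516 else 0)) else (bif Nat.beq p 511 then 3852 else 0)) else (bif Nat.ble 508 p then (bif Nat.ble 509 p then (bif Nat.beq p 509 then 8003 else 0) else (bif Nat.beq p 508 then 5298 else 0)) else (bif Nat.beq p 503 then 3517 else 0))) else (bif Nat.ble 499 p then (bif Nat.ble 500 p then (bif Nat.ble 502 p then (bif Nat.beq p 502 then 560 else 0) else (bif Nat.beq p 500 then 2900 else 0)) else (bif Nat.beq p 499 then 5348 else 0)) else (bif Nat.ble 492 p then (bif Nat.beq p 492 then 6505 else 0) else (bif Nat.beq p 489 then 4276 else 0)))) else (bif Nat.ble 481 p then (bif Nat.ble 485 p then (bif Nat.ble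 487 p then (bif Nat.ble 488 p then (bif Nat.beq p 488 then 2666 else 0) else (bif Nat.beq p 487 then 5261 else 0)) else (bif Nat.beq p 485 then 4232 else 0)) else (bif Nat.ble 482 p then (bif Nat.ble 484 p then (bif Nat.beq p 484 then 4236 else 0) else (bif Nat.beq p 482 then 5347 else 0)) else (bif Nat.beq p 481 then 4113 else 0))) else (bif Nat.ble 473 p then (bif Nat.ble 475 p then (bif Nat.ble 476 p then (bif Nat.beq p 476 then 1561 else 0) else (bif Nat.beq p 475 then 1718 else 0)) else (bif Nat.beq p 473 then 5299 else 0)) else (bif Nat.ble 472 p then (bif Nat.beq p 472 then 6527 else 0) else (bif Nat.beq p 465 then 7109 else 0))))) else (bif Nat.ble 445 p then (bif Nat.ble 455 p then (bif Nat.ble 460 p then (bif Nat.ble 461 p then (bif Nat.ble 462 p then (bif Nat.beq p 462 then 4971 else 0) else (bif Nat.beq p 461 then 5260 else 0)) else (bif Nat.beq p 460 then 7834 else 0)) else (bif Nat.ble 457 p then (bif Nat.ble 458 p then (bif Nat.beq p 458 then 6523 else 0) else (bif Nat.beq p 457 then 5234 else 0)) else (bif Nat.beq p 455 then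 429 else 0))) else (bif Nat.ble 448 p then (bif Nat.ble 449 p then (bif Nat.ble 454 p then (bif Nat.beq p 454 then 4275 else 0) else (bif Nat.beq p 449 then 6291 else 0)) else (bif Nat.beq p 448 then 1971 else 0)) else (bif Nat.ble 446 p then (bif Nat.beq p 446 then 5237 else 0) else (bif Nat.beq p 445 then 6553 else 0)))) else (bif Nat.ble 414 p then (bif Nat.ble 434 p then (bif Nat.ble 435 p then (bif Nat.ble 438 p then (bif Nat.beq p 438 then 3518 else 0) else (bif Nat.beq p 435 then 3139 else 0)) else (bif Nat.beq p 434 then 6552 else 0)) else (bif Nat.ble 423 p then (bif Nat.ble 433 p then (bif Nat.beq p 433 then 6525 else 0) else (bif Nat.beq p 423 then 7995 else 0)) else (bif Nat.beq p 414 then 1877 else 0))) else (bif Nat.ble 410 p then (bif Nat.ble 412 p then (bif Nat.ble 413 p then (bif Nat.beq p 413 then 2904 else 0) else (bif Nat.beq p 412 then 5700 else 0)) else (bif Nat.beq p 410 then 4117 else 0)) else (bif Nat.ble 409 p then (bif Nat.beq p 409 then 6295 else 0) else (bif Nat.beq p 404 then 4520 else 0)))))) else (bif Nat.ble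 353 p then (bif Nat.ble 379 p then (bif Nat.ble 392 p then (bif Nat.ble 400 p then (bif Nat.ble 401 p then (bif Nat.ble 403 p then (bif Nat.beq p 403 then 2352 else 0) else (bif Nat.beq p 401 then 11589 else 0)) else (bif Nat.beq p 400 then 8000 else 0)) else (bif Nat.ble 394 p then (bif Nat.ble 395 p then (bif Nat.beq p 395 then 1867 else 0) else (bif Nat.beq p 394 then 2542 else 0)) else (bif Nat.beq p 392 then 3157 else 0))) else (bif Nat.ble 381 p then (bif Nat.ble 384 p then (bif Nat.ble 391 p then (bif Nat.beq p 391 then 4966 else 0) else (bif Nat.beq p 384 then 5259 else 0)) else (bif Nat.beq p 381 then 4136 else 0)) else (bif Nat.ble 380 p then (bif Nat.beq p 380 then 2330 else 0) else (bif Nat.beq p 379 then 3347 else 0)))) else (bif Nat.ble 367 p then (bif Nat.ble 374 p then (bif Nat.ble 376 p then (bif Nat.ble 377 p then (bif Nat.beq p 377 then 6509 else 0) else (bif Nat.beq p 376 then 5693 else 0)) else (bif Nat.beq p 374 then 2528 else 0)) else (bif Nat.ble 368 p then (bif Nat.ble 373 p then (bif Nat.beq p 373 then 9592 else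 0) else (bif Nat.beq p 368 then 1380 else 0)) else (bif Nat.beq p 367 then 2348 else 0))) else (bif Nat.ble 357 p then (bif Nat.ble 364 p then (bif Nat.ble 365 p then (bif Nat.beq p 365 then 9768 else 0) else (bif Nat.beq p 364 then 2521 else 0)) else (bif Nat.beq p 357 then 4969 else 0)) else (bif Nat.ble 354 p then (bif Nat.beq p 354 then 7111 else 0) else (bif Nat.beq p 353 then 6537 else 0))))) else (bif Nat.ble 316 p then (bif Nat.ble 329 p then (bif Nat.ble 333 p then (bif Nat.ble 342 p then (bif Nat.ble 352 p then (bif Nat.beq p 352 then 3137 else 0) else (bif Nat.beq p 342 then 5238 else 0)) else (bif Nat.beq p 333 then 5263 else 0)) else (bif Nat.ble 331 p then (bif Nat.ble 332 p then (bif Nat.beq p 332 then 5692 else 0) else (bif Nat.beq p 331 then 4135 else 0)) else (bif Nat.beq p 329 then 8707 else 0))) else (bif Nat.ble 318 p then (bif Nat.ble 321 p then (bif Nat.ble 328 p then (bif Nat.beq p 328 then 3319 else 0) else (bif Nat.beq p 321 then 3514 else 0)) else (bif Nat.beq p 318 then 4519 else 0)) else (bif Nat.ble 317 p then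 (bif Nat.beq p 317 then 3317 else 0) else (bif Nat.beq p 316 then 3322 else 0)))) else (bif Nat.ble 294 p then (bif Nat.ble 308 p then (bif Nat.ble 309 p then (bif Nat.ble 312 p then (bif Nat.beq p 312 then 6526 else 0) else (bif Nat.beq p 309 then 3161 else 0)) else (bif Nat.beq p 308 then 5699 else 0)) else (bif Nat.ble 297 p then (bif Nat.ble 307 p then (bif Nat.beq p 307 then 8706 else 0) else (bif Nat.beq p 297 then 2143 else 0)) else (bif Nat.beq p 294 then 6623 else 0))) else (bif Nat.ble 289 p then (bif Nat.ble 290 p then (bif Nat.ble 291 p then (bif Nat.beq p 291 then 743 else 0) else (bif Nat.beq p 290 then 5289 else 0)) else (bif Nat.beq p 289 then 2515 else 0)) else (bif Nat.ble 285 p then (bif Nat.beq p 285 then 4242 else 0) else (bif Nat.beq p 282 then 4976 else 0))))))) else (bif Nat.ble 117 p then (bif Nat.ble 207 p then (bif Nat.ble 256 p then (bif Nat.ble 266 p then (bif Nat.ble 270 p then (bif Nat.ble 280 p then (bif Nat.ble 281 p then (bif Nat.beq p 281 then 2349 else 0) else (bif Nat.beq p 280 then 4525 else 0)) else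 (bif Nat.beq p 270 then 4234 else 0)) else (bif Nat.ble 268 p then (bif Nat.ble 269 p then (bif Nat.beq p 269 then 5348 else 0) else (bif Nat.beq p 268 then 2900 else 0)) else (bif Nat.beq p 266 then 560 else 0))) else (bif Nat.ble 259 p then (bif Nat.ble 260 p then (bif Nat.ble 265 p then (bif Nat.beq p 265 then 3517 else 0) else (bif Nat.beq p 260 then 5298 else 0)) else (bif Nat.beq p 259 then 8003 else 0)) else (bif Nat.ble 257 p then (bif Nat.beq p 257 then 3852 else 0) else (bif Nat.beq p 256 then 2516 else 0)))) else (bif Nat.ble 225 p then (bif Nat.ble 245 p then (bif Nat.ble 246 p then (bif Nat.ble 249 p then (bif Nat.beq p 249 then 4276 else 0) else (bif Nat.beq p 246 then 6505 else 0)) else (bif Nat.beq p 245 then 5261 else 0)) else (bif Nat.ble 234 p then (bif Nat.ble 244 p then (bif Nat.beq p 244 then 2666 else 0) else (bif Nat.beq p 234 then 4970 else 0)) else (bif Nat.beq p 225 then 5288 else 0))) else (bif Nat.ble 221 p then (bif Nat.ble 223 p then (bif Nat.ble 224 p then (bif Nat.beq p 224 then 3138 else 0) else (bif Nat.beq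 p 223 then 4243 else 0)) else (bif Nat.beq p 221 then 8054 else 0)) else (bif Nat.ble 220 p then (bif Nat.beq p 220 then 6512 else 0) else (bif Nat.beq p 207 then 3165 else 0))))) else (bif Nat.ble 174 p then (bif Nat.ble 186 p then (bif Nat.ble 196 p then (bif Nat.ble 197 p then (bif Nat.ble 198 p then (bif Nat.beq p 198 then 6504 else 0) else (bif Nat.beq p 197 then 8001 else 0)) else (bif Nat.beq p 196 then 4116 else 0)) else (bif Nat.ble 193 p then (bif Nat.ble 194 p then (bif Nat.beq p 194 then 2345 else 0) else (bif Nat.beq p 193 then 6624 else 0)) else (bif Nat.beq p 186 then 7107 else 0))) else (bif Nat.ble 181 p then (bif Nat.ble 182 p then (bif Nat.ble 183 p then (bif Nat.beq p 183 then 6290 else 0) else (bif Nat.beq p 182 then 4140 else 0)) else (bif Nat.beq p 181 then 3847 else 0)) else (bif Nat.ble 177 p then (bif Nat.beq p 177 then 1240 else 0) else (bif Nat.beq p 174 then 4233 else 0)))) else (bif Nat.ble 143 p then (bif Nat.ble 162 p then (bif Nat.ble 172 p then (bif Nat.ble 173 p then (bif Nat.beq p 173 then 6554 else 0)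 else (bif Nat.beq p 172 then 6540 else 0)) else (bif Nat.beq p 162 then 5240 else 0)) else (bif Nat.ble 144 p then (bif Nat.ble 153 p then (bif Nat.beq p 153 then 6504 else 0) else (bif Nat.beq p 144 then 3165 else 0)) else (bif Nat.beq p 143 then 6624 else 0))) else (bif Nat.ble 139 p then (bif Nat.ble 140 p then (bif Nat.ble 142 p then (bif Nat.beq p 142 then 2345 else 0) else (bif Nat.beq p 140 then 4116 else 0)) else (bif Nat.beq p 139 then 8001 else 0)) else (bif Nat.ble 126 p then (bif Nat.beq p 126 then 5288 else 0) else (bif Nat.beq p 117 then 4970 else 0)))))) else (bif Nat.ble 60 p then (bif Nat.ble 92 p then (bif Nat.ble 102 p then (bif Nat.ble 113 p then (bif Nat.ble 115 p then (bif Nat.ble 116 p then (bif Nat.beq p 116 then 6512 else 0) else (bif Nat.beq p 115 then 8054 else 0)) else (bif Nat.beq p 113 then 4243 else 0)) else (bif Nat.ble 105 p then (bif Nat.ble 112 p then (bif Nat.beq p 112 then 3138 else 0) else (bif Nat.beq p 105 then 4233 else 0)) else (bif Nat.beq p 102 then 1240 else 0))) else (bif Nat.ble 96 p then (bif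 Nat.ble 100 p then (bif Nat.ble 101 p then (bif Nat.beq p 101 then 6540 else 0) else (bif Nat.beq p 100 then 6554 else 0)) else (bif Nat.beq p 96 then 6290 else 0)) else (bif Nat.ble 93 p then (bif Nat.beq p 93 then 7107 else 0) else (bif Nat.beq p 92 then 3847 else 0)))) else (bif Nat.ble 76 p then (bif Nat.ble 80 p then (bif Nat.ble 81 p then (bif Nat.ble 91 p then (bif Nat.beq p 91 then 4140 else 0) else (bif Nat.beq p 81 then 5240 else 0)) else (bif Nat.beq p 80 then 6541 else 0)) else (bif Nat.ble 77 p then (bif Nat.ble 79 p then (bif Nat.beq p 79 then 4965 else 0) else (bif Nat.beq p 77 then 2903 else 0)) else (bif Nat.beq p 76 then 1006 else 0))) else (bif Nat.ble 68 p then (bif Nat.ble 70 p then (bif Nat.ble 71 p then (bif Nat.beq p 71 then 3846 else 0) else (bif Nat.beq p 70 then 5286 else 0)) else (bif Nat.beq p 68 then 6293 else 0)) else (bif Nat.ble 67 p then (bif Nat.beq p 67 then 4139 else 0) else (bif Nat.beq p 60 then 3521 else 0))))) else (bif Nat.ble 40 p then (bif Nat.ble 50 p then (bif Nat.ble 55 p then (bif Nat.ble 56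 p then (bif Nat.ble 57 p then (bif Nat.beq p 57 then 7104 else 0) else (bif Nat.beq p 56 then 8004 else 0)) else (bif Nat.beq p 55 then 3326 else 0)) else (bif Nat.ble 52 p then (bif Nat.ble 53 p then (bif Nat.beq p 53 then 4139 else 0) else (bif Nat.beq p 52 then 6293 else 0)) else (bif Nat.beq p 50 then 5286 else 0))) else (bif Nat.ble 43 p then (bif Nat.ble 44 p then (bif Nat.ble 49 p then (bif Nat.beq p 49 then 3846 else 0) else (bif Nat.beq p 44 then 1006 else 0)) else (bif Nat.beq p 43 then 2903 else 0)) else (bif Nat.ble 41 p then (bif Nat.beq p 41 then 4965 else 0) else (bif Nat.beq p 40 then 6541 else 0)))) else (bif Nat.ble 18 p then (bif Nat.ble 29 p then (bif Nat.ble 30 p then (bif Nat.ble 33 p then (bif Nat.beq p 33 then 7104 else 0) else (bif Nat.beq p 30 then 3521 else 0)) else (bif Nat.beq p 29 then 3326 else 0)) else (bif Nat.ble 28 p then (bif Nat.beq p 28 then 8004 else 0) else (bif Nat.beq p 18 then 3842 else 0))) else (bif Nat.ble 7 p then (bif Nat.ble 8 p then (bif Nat.ble 9 p then (bif Nat.beq p 9 then 3842 else 0)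 else (bif Nat.beq p 8 then 5694 else 0)) else (bif Nat.beq p 7 then 2907 else 0)) else (bif Nat.ble 5 p then (bif Nat.beq p 5 then 2907 else 0) else (bif Nat.beq p 4 then 5694 else 0))))))))))

/-- The position of a coordinate. -/
def pos : Fin 7 → Nat := fun i => i.1

/-- The vector of a code. -/
noncomputable def dec (n : Nat) (i : Fin 7) : ZMod 3 := ((n / 3 ^ pos i % 3 : Nat) : ZMod 3)

/-- The code of a vector. -/
noncomputable def enc (v : Fin 7 → ZMod 3) : Nat := 1 * (v 0).val + 3 * (v 1).val + 9 * (v 2).val + 27 * (v 3).val + 81 * (v 4).val + 243 * (v 5).val + 729 * (v 6).val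

noncomputable def q0 (v : Fin 7 → ZMod 3) : ZMod 3 :=
  2 * 1 * (v 0 * v 0) + 2 * 1 * (v 1 * v 1) + 2 * 2 * (v 2 * v 2) + 2 * 1 * (v 3 * v 3) + 2 * 2 * (v 4 * v 4) + 2 * 1 * (v 5 * v 5) + 2 * 2 * (v 6 * v 6)

noncomputable def pol0 (x y : Fin 7 → ZMod 3) : ZMod 3 :=
  1 * (x 0 * y 0) + 1 * (x 1 * y 1) + 2 * (x 2 * y 2) + 1 * (x 3 * y 3) + 2 * (x 4 * y 4) + 1 * (x 5 * y 5) + 2 * (x 6 * y 6)

/-- The coordinates. -/
def allI : List (Fin 7) := [0,1,2,3,4,5,6]

/-- The table. -/
noncomputable def tb : Tb (Fin 7) where
  wd := [1,2,3,4,5,6,8,1,2,3,4,5,6,8,1,2,3,4,5,6,8,1,2,3,4,5,6,8,1,2,3,4,5,6,8,1,2,3,4,5,6,8,1,2,3,4,5,6,8,1,2,3,4,5,6,8,1,2,3,4,5,6,8]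
  wc := [7,1,2,3,4,5,6,8,1,2,3,4,5,6,8,1,2,3,4,5,6,8,1,2,3,4,5,6,8,1,2,3,4,5,6,8,1,2,3,4,5,6,8,1,2,3,4,5,6,8,1,2,3,4,5,6,8,1,2,3,4,5,6,8,7]
  flag := fun _ => true
  V := fun p => dec (vT p)
  S := [[7,6,5,4,3,2,1,8,3,2,4,3,5,4,6,5,7,6], [7,6,5,4,3,2,1,0,8,3,2,1,4,3,2,5,4,3,6,5,7,6,9,8,3,4], [7,6,5,4,3,2,1,0,8,3,2,4,3,5,4,6,5,7,6,8,9,8,3,4,5], [7,6,5,4,3,2,1,0,8,3,2,1,4,3,2,5,4,6,5,7,6,9], [7,6,5,4,3,2,1,0,8,3,2,4,3,5,4,6,5,7,6,8,3,9,8], [7,6,5,4,3,2,1,0,8,3,2,4,3,5,4,6,5,7,6,8,3,4], [7,6,5,4,3,2,1,0,8,3,2,1,4,3,5,4,6,5,7,6,9,8,3,2,1,0]]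
  par := fun p => (parT p / 10000000, parT p % 10000000)
  dep := depT
  U := fun v => uT (enc v)

open Cfsg.Agent.Lib.TC.D.Fi23a.Tab in
theorem hrows : rangeB (rowOK pt tb allI q0 pol0 1 [1,2,3,4,5,6,8,1,2,3,4,5,6,8,1,2,3,4,5,6,8,1,2,3,4,5,6,8,1,2,3,4,5,6,8,1,2,3,4,5,6,8,1,2,3,4,5,6,8,1,2,3,4,5,6,8,1,2,3,4,5,6,8]) 0 pt.n = true := by decide +kernel

open Cfsg.Agent.Lib.TC.D.Fi23a.Tab in
theorem hS : ∀ u ∈ tb.S, (∀ z ∈ u, z < pt.k) ∧ sel pt tb (pt.val u 0) = true := by decide +kernel

open Cfsg.Agent.Lib.TC.D.Fi23a.Tab in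
theorem hsurj0 : allVec 7 (fun v => !decide (q0 v = 1) || surjOK pt tb allI v) = true := by decide +kernel

theorem hallI : ∀ i, i ∈ allI := by decide

end Cfsg.Agent.Lib.ThreeT.Real.D23
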