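import Cfsg.Agent.Lib.ThreeT.Real.D24.Defs
import Cfsg.Agent.Lib.ThreeT.Real.D24.Surj
import Cfsg.Agent.Lib.ThreeT.Real.D24.R0
import Cfsg.Agent.Lib.ThreeT.Real.D24.R1
import Cfsg.Agent.Lib.ThreeT.Real.D24.R2
import Cfsg.Agent.Lib.ThreeT.Real.D24.R3
import Cfsg.Agent.Lib.ThreeT.Real.D24.R4
import Cfsg.Agent.Lib.ThreeT.Real.D24.R5
import Cfsg.Agent.Lib.ThreeT.Real.D24.R6
import Cfsg.Agent.Lib.ThreeT.Real.D24.R7
import Cfsg.Agent.Lib.ThreeT.Real.D24.R8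
import Cfsg.Agent.Lib.ThreeT.Real.D24.R9
import Cfsg.Agent.Lib.ThreeT.Real.D24.R10
import Cfsg.Agent.Lib.ThreeT.Real.D24.R11
import Cfsg.Agent.Lib.ThreeT.Real.D24.R12
import Cfsg.Agent.Lib.ThreeT.Real.D24.R13
import Cfsg.Agent.Lib.ThreeT.Real.D24.R14
import Cfsg.Agent.Lib.ThreeT.Real.D24.R15
import Cfsg.Agent.Lib.ThreeT.Real.D24.R16
import Cfsg.Agent.Lib.ThreeT.Real.D24.R17
import Cfsg.Agent.Lib.ThreeT.Real.D24.R18
import Cfsg.Agent.Lib.ThreeT.Real.D24.R19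
import Cfsg.Agent.Lib.ThreeT.Real.D24.R20
import Cfsg.Agent.Lib.ThreeT.Real.D24.R21
import Cfsg.Agent.Lib.ThreeT.Real.D24.R22

/-! # The table of the reflection group: the row checks put together -/

set_option autoImplicit false
set_option maxRecDepth 1000000
set_option linter.style.longLine false

namespace Cfsg.Agent.Lib.ThreeT.Real.D24

open Cfsg.Agent.Lib.ThreeT.Real

theorem hj0 : rangeB (rowOK Cfsg.Agent.Lib.TC.D.Fi24a.Tab.pt tb allI q0 pol0 1 [0]) 0 1812 = true := hr0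
theorem hj1 : rangeB (rowOK Cfsg.Agent.Lib.TC.D.Fi24a.Tab.pt tb allI q0 pol0 1 [0]) 0 6031 = true := rangeB_join (lo := 0) (a := 1812) (b := 4219) hj0 hr1
theorem hj2 : rangeB (rowOK Cfsg.Agent.Lib.TC.D.Fi24a.Tab.pt tb allI q0 pol0 1 [0]) 0 13636 = true := rangeB_join (lo := 0) (a := 6031) (b := 7605) hj1 hr2
theorem hj3 : rangeB (rowOK Cfsg.Agent.Lib.TC.D.Fi24a.Tab.pt tb allI q0 pol0 1 [0]) 0 30000 = true := rangeB_join (lo := 0) (a := 13636) (b := 16364) hj2 hr3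
theorem hj4 : rangeB (rowOK Cfsg.Agent.Lib.TC.D.Fi24a.Tab.pt tb allI q0 pol0 1 [0]) 0 45000 = true := rangeB_join (lo := 0) (a := 30000) (b := 15000) hj3 hr4
theorem hj5 : rangeB (rowOK Cfsg.Agent.Lib.TC.D.Fi24a.Tab.pt tb allI q0 pol0 1 [0]) 0 60000 = true := rangeB_join (lo := 0) (a := 45000) (b := 15000) hj4 hr5
theorem hj6 : rangeB (rowOK Cfsg.Agent.Lib.TC.D.Fi24a.Tab.pt tb allI q0 pol0 1 [0]) 0 75000 = true := rangeB_join (lo := 0) (a := 60000) (b := 15000) hj5 hr6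
theorem hj7 : rangeB (rowOK Cfsg.Agent.Lib.TC.D.Fi24a.Tab.pt tb allI q0 pol0 1 [0]) 0 90000 = true := rangeB_join (lo := 0) (a := 75000) (b := 15000) hj6 hr7
theorem hj8 : rangeB (rowOK Cfsg.Agent.Lib.TC.D.Fi24a.Tab.pt tb allI q0 pol0 1 [0]) 0 105000 = true := rangeB_join (lo := 0) (a := 90000) (b := 15000) hj7 hr8
theorem hj9 : rangeB (rowOK Cfsg.Agent.Lib.TC.D.Fi24a.Tab.pt tb allI q0 pol0 1 [0]) 0 120000 = true := rangeB_join (lo := 0) (a := 105000) (b := 15000) hj8 hr9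
theorem hj10 : rangeB (rowOK Cfsg.Agent.Lib.TC.D.Fi24a.Tab.pt tb allI q0 pol0 1 [0]) 0 135000 = true := rangeB_join (lo := 0) (a := 120000) (b := 15000) hj9 hr10
theorem hj11 : rangeB (rowOK Cfsg.Agent.Lib.TC.D.Fi24a.Tab.pt tb allI q0 pol0 1 [0]) 0 150000 = true := rangeB_join (lo := 0) (a := 135000) (b := 15000) hj10 hr11
theorem hj12 : rangeB (rowOK Cfsg.Agent.Lib.TC.D.Fi24a.Tab.pt tb allI q0 pol0 1 [0]) 0 165000 = true := rangeB_join (lo := 0) (a := 150000) (b := 15000) hj11 hr12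
theorem hj13 : rangeB (rowOK Cfsg.Agent.Lib.TC.D.Fi24a.Tab.pt tb allI q0 pol0 1 [0]) 0 180000 = true := rangeB_join (lo := 0) (a := 165000) (b := 15000) hj12 hr13
theorem hj14 : rangeB (rowOK Cfsg.Agent.Lib.TC.D.Fi24a.Tab.pt tb allI q0 pol0 1 [0]) 0 195000 = true := rangeB_join (lo := 0) (a := 180000) (b := 15000) hj13 hr14
theorem hj15 : rangeB (rowOK Cfsg.Agent.Lib.TC.D.Fi24a.Tab.pt tb allI q0 pol0 1 [0]) 0 210000 = true := rangeB_join (lo := 0) (a := 195000) (b := 15000) hj14 hr15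
theorem hj16 : rangeB (rowOK Cfsg.Agent.Lib.TC.D.Fi24a.Tab.pt tb allI q0 pol0 1 [0]) 0 225000 = true := rangeB_join (lo := 0) (a := 210000) (b := 15000) hj15 hr16
theorem hj17 : rangeB (rowOK Cfsg.Agent.Lib.TC.D.Fi24a.Tab.pt tb allI q0 pol0 1 [0]) 0 240000 = true := rangeB_join (lo := 0) (a := 225000) (b := 15000) hj16 hr17
theorem hj18 : rangeB (rowOK Cfsg.Agent.Lib.TC.D.Fi24a.Tab.pt tb allI q0 pol0 1 [0]) 0 255000 = true := rangeB_join (lo := 0) (a := 240000) (b := 15000) hj17 hr18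
theorem hj19 : rangeB (rowOK Cfsg.Agent.Lib.TC.D.Fi24a.Tab.pt tb allI q0 pol0 1 [0]) 0 270000 = true := rangeB_join (lo := 0) (a := 255000) (b := 15000) hj18 hr19
theorem hj20 : rangeB (rowOK Cfsg.Agent.Lib.TC.D.Fi24a.Tab.pt tb allI q0 pol0 1 [0]) 0 285000 = true := rangeB_join (lo := 0) (a := 270000) (b := 15000) hj19 hr20
theorem hj21 : rangeB (rowOK Cfsg.Agent.Lib.TC.D.Fi24a.Tab.pt tb allI q0 pol0 1 [0]) 0 300000 = true := rangeB_join (lo := 0) (a := 285000) (b := 15000) hj20 hr21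
theorem hj22 : rangeB (rowOK Cfsg.Agent.Lib.TC.D.Fi24a.Tab.pt tb allI q0 pol0 1 [0]) 0 306936 = true := rangeB_join (lo := 0) (a := 300000) (b := 6936) hj21 hr22
theorem hrows : rangeB (rowOK Cfsg.Agent.Lib.TC.D.Fi24a.Tab.pt tb allI q0 pol0 1 [0]) 0 Cfsg.Agent.Lib.TC.D.Fi24a.Tab.pt.n = true := by
  have h : Cfsg.Agent.Lib.TC.D.Fi24a.Tab.pt.n = 306936 := by decide +kernel
  rw [h]
  exact hj22

end Cfsg.Agent.Lib.ThreeT.Real.D24
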