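import Mathlib
import Cfsg.Agent.S5360
import Cfsg.Agent.S0798
import Cfsg.Agent.Lib.OmegaSyl.Inv
import Cfsg.Agent.Lib.Classical.QuadEichBridge

/-!
The reflection group of the `8`-dimensional hyperbolic space over `𝔽₃` modulo its centre:
its commutator subgroup is `PΩ⁺(8,3)`, of index two.
-/

set_option autoImplicit false

namespace Cfsg.Agent.Lib.ThreeT.Real.Eight

open Cfsg Matrix QuadraticMap
open Cfsg.Agent.Lib.OrthRefl.Basic Cfsg.Agent.Lib.Orth.Refl Cfsg.Agent.Lib.Orth.Bridge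
  Cfsg.Agent.Lib.Witt.Quadratic Cfsg.Agent.Lib.Orth.Forms Cfsg.Agent.Lib.OmegaSyl.Inv
  Cfsg.Agent.Lib.ThreeT.F3Refl

/-! ### Group theory -/

section groups

variable {G H : Type*} [Group G] [Group H]

theorem index_commutator_equiv (e : G ≃* H) : (commutator H).index = (commutator G).index := by
  have h : (commutator G).map e.toMonoidHom = commutator H := by
    rw [map_commutator_eq]
    have : e.toMonoidHom.range = ⊤ := MonoidHom.range_eq_top.2 e.surjective
    rw [this]
    rfl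
  rw [← h]
  exact Subgroup.index_map_equiv _ e

theorem comm_quot_center {O : Type*} [Group O] (R : Subgroup O) (hΩ : commutator O ≤ R)
    (hK : (commutator R).map R.subtype = commutator O)
    (hZ : ∀ z : R, z ∈ Subgroup.center R → ∃ h : (z : O) ∈ commutator O,
      (⟨z, h⟩ : commutator O) ∈ Subgroup.center (commutator O))
    (hZ' : ∀ w : commutator O, w ∈ Subgroup.center (commutator O) →
      (⟨w, hΩ w.2⟩ : R) ∈ Subgroup.center R) :
    Nonempty (commutator (R ⧸ Subgroup.center R) ≃* (commutator O ⧸ Subgroup.center (commutator O))) := by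
  let f : commutator O →* R ⧸ Subgroup.center R :=
    (QuotientGroup.mk' (Subgroup.center R)).comp (Subgroup.inclusion hΩ)
  have hker : f.ker = Subgroup.center (commutator O) := by
    ext w
    rw [MonoidHom.mem_ker]
    constructor
    · intro h
      have h1 : (Subgroup.inclusion hΩ w) ∈ Subgroup.center R := (QuotientGroup.eq_one_iff _).1 h
      obtain ⟨h2, h3⟩ := hZ _ h1
      exact h3
    · intro h
      exact (QuotientGroup.eq_one_iff _).2 (hZ' w h)
  have hrange : f.range = commutator (R ⧸ Subgroup.center R) := by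
    have hs : Function.Surjective (QuotientGroup.mk' (Subgroup.center R)) := QuotientGroup.mk'_surjective _
    have h1 : commutator (R ⧸ Subgroup.center R) = (commutator R).map (QuotientGroup.mk' (Subgroup.center R)) := by
      rw [map_commutator_eq, MonoidHom.range_eq_top.2 hs]
      rfl
    rw [h1]
    apply le_antisymm
    · rintro _ ⟨w, rfl⟩
      have : (w : O) ∈ (commutator R).map R.subtype := by
        rw [hK]
        exact w.2
      obtain ⟨x, hx, hxe⟩ := this
      refine ⟨x, hx, ?_⟩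
      have : x = Subgroup.inclusion hΩ w := Subtype.ext hxe
      rw [this]
      rfl
    · rintro _ ⟨x, hx, rfl⟩
      have : (x : O) ∈ commutator O := by
        rw [← hK]
        exact ⟨x, hx, rfl⟩
      exact ⟨⟨x, this⟩, rfl⟩
  exact ⟨(MulEquiv.subgroupCongr hrange.symm).trans
    ((QuotientGroup.quotientKerEquivRange f).symm.trans (QuotientGroup.quotientMulEquivOfEq hker))⟩

end groups

/-! ### Transport to `Fin 8` -/

abbrev I8 := Fin 4 ⊕ Fin 4

noncomputable abbrev P8 : QuadraticForm (ZMod 3) (I8 → ZMod 3) := plusForm 4 (ZMod 3)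

noncomputable def psi8 : (I8 → ZMod 3) ≃ₗ[ZMod 3] (Fin 8 → ZMod 3) :=
  LinearEquiv.funCongrLeft (ZMod 3) (ZMod 3) (finSumFinEquiv (m := 4) (n := 4)).symm

noncomputable def Q8' : QuadraticForm (ZMod 3) (Fin 8 → ZMod 3) :=
  P8.comp psi8.symm.toLinearMap

theorem hpsi (v : I8 → ZMod 3) : Q8' (psi8 v) = P8 v := by
  simp [Q8']

theorem Q8'_nondeg : (polarBilin Q8').Nondegenerate := by
  have hP : (polarBilin P8).Nondegenerate := plusForm_nondeg 4
  have hp := polar_isometry (Q := P8) (Q' := Q8') psi8 hpsi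
  refine ⟨?_, ?_⟩
  · intro x hx
    have hx' : ∀ y, polar Q8' x y = 0 := hx
    have : psi8.symm x = 0 := by
      apply hP.1
      intro y
      show polar P8 _ y = 0
      have := hp (psi8.symm x) y
      rw [LinearEquiv.apply_symm_apply] at this
      rw [← this]
      exact hx' _
    simpa using this
  · intro x hx
    have hx' : ∀ y, polar Q8' y x = 0 := hx
    have : psi8.symm x = 0 := by
      apply hP.2
      intro y
      show polar P8 y _ = 0
      have := hp y (psi8.symm x)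
      rw [LinearEquiv.apply_symm_apply] at this
      rw [← this]
      exact hx' _
    simpa using this

noncomputable def Phi : isometryGroup (ZMod 3) ⇑P8 ≃* isometryGroup (ZMod 3) ⇑Q8' :=
  (toIso P8).trans ((isoEquiv psi8 hpsi).trans (toIso Q8').symm)

theorem Phi_mulVec (g : isometryGroup (ZMod 3) ⇑P8) (x : I8 → ZMod 3) :
    ((Phi g : isometryGroup (ZMod 3) ⇑Q8') : GL (Fin 8) (ZMod 3)).val *ᵥ (psi8 x) =
      psi8 ((g : GL I8 (ZMod 3)).val *ᵥ x) := by
  show (((toIso Q8').symm (isoEquiv psi8 hpsi (toIso P8 g)) : isometryGroup (ZMod 3) ⇑Q8') :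
      GL (Fin 8) (ZMod 3)).val *ᵥ (psi8 x) = _
  rw [toIso_symm_mulVec, isoEquiv_apply, LinearEquiv.symm_apply_apply]
  rfl

theorem Phi_rG (v : I8 → ZMod 3) : Phi (rG P8 v) = rG Q8' (psi8 v) := by
  apply Subtype.ext
  apply Units.ext
  apply Matrix.mulVec_injective
  funext y
  obtain ⟨x, rfl⟩ := psi8.surjective y
  rw [Phi_mulVec, rG_mulVec, rG_mulVec, refl_apply, refl_apply, map_sub, map_smul, hpsi,
    polar_isometry psi8 hpsi]

theorem reflectionsOfNorm_eq (ι : Type) [Fintype ι] [DecidableEq ι] (Q : QuadraticForm (ZMod 3) (ι → ZMod 3))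
    (c : ZMod 3) : reflectionsOfNorm (⇑Q) c = {g | ∃ v, Q v = c ∧ g = rG Q v} := by
  ext g
  constructor
  · rintro ⟨v, hv, h⟩
    exact ⟨v, hv, eq_rG_of_val h⟩
  · rintro ⟨v, hv, rfl⟩
    exact ⟨v, hv, rG_val Q v⟩

theorem map_R (c : ZMod 3) :
    (reflectionSubgroup (⇑P8) c).map Phi.toMonoidHom = reflectionSubgroup (⇑Q8') c := by
  rw [reflectionSubgroup, reflectionSubgroup, MonoidHom.map_closure, reflectionsOfNorm_eq, reflectionsOfNorm_eq]
  congr 1
  ext g
  constructor
  · rintro ⟨_, ⟨v, hv, rfl⟩, rfl⟩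
    exact ⟨psi8 v, by rw [hpsi]; exact hv, Phi_rG v⟩
  · rintro ⟨y, hy, rfl⟩
    obtain ⟨x, rfl⟩ := psi8.surjective y
    refine ⟨_, ⟨x, by rw [← hpsi]; exact hy, rfl⟩, Phi_rG x⟩

/-- The isomorphism of the reflection groups. -/
noncomputable def PhiR (c : ZMod 3) : reflectionSubgroup (⇑P8) c ≃* reflectionSubgroup (⇑Q8') c :=
  (Phi.subgroupMap _).trans (MulEquiv.subgroupCongr (map_R c))

theorem PhiR_coe (c : ZMod 3) (g : reflectionSubgroup (⇑P8) c) : ((PhiR c g : reflectionSubgroup (⇑Q8') c) :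
    isometryGroup (ZMod 3) ⇑Q8') = Phi g := rfl

/-! ### The facts on `Fin 8` -/

theorem index_R' {c : ZMod 3} (hc : c ≠ 0) : (reflectionSubgroup (⇑Q8') c).index = 2 := by
  have h := Cfsg.Agent.S0798.result (F := ZMod 3) (by decide) (n := 8) (by norm_num) (by decide) Q8' Q8'_nondeg
    (by rw [ZMod.card]; norm_num) c hc
  convert h using 2
  rw [reflectionSubgroup]
  congr 1
  ext g
  constructor
  · rintro ⟨v, hv, h'⟩
    exact ⟨v, 1, one_ne_zero, by rw [hv]; ring, h'⟩
  · rintro ⟨v, t, ht, hv, h'⟩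
    refine ⟨v, ?_, h'⟩
    rw [hv]
    have : ∀ t : ZMod 3, t ≠ 0 → t ^ 2 = 1 := by decide
    rw [this t ht, mul_one]

theorem index_comm_R' {c : ZMod 3} (hc : c ≠ 0) : (commutator (reflectionSubgroup (⇑Q8') c)).index ≤ 2 :=
  (Cfsg.Agent.S5360.result 8 (by norm_num) Q8' Q8'_nondeg c hc).2.1

theorem eq_or_neg_of_rG {n : ℕ} {Q : QuadraticForm (ZMod 3) (Fin n → ZMod 3)} {c : ZMod 3} (hc : c ≠ 0)
    {u w : Fin n → ZMod 3} (hu : Q u = c) (hw : Q w = c) (h : rG Q u = rG Q w) : w = u ∨ w = -u := by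
  have h1 := rG_mulVec Q u u
  have h2 := rG_mulVec Q w u
  rw [h] at h1
  have h3 := h1.symm.trans h2
  rw [refl_self Q (hu ▸ hc), refl_apply] at h3
  set a := (Q w)⁻¹ * polar Q u w with ha
  have h4 : u = (-a) • w := by
    have h5 : (u + u) = a • w := by
      have : u - a • w = -u := h3.symm
      have h6 : u + u = (u - a • w) + u + a • w := by abel
      rw [h6, this]
      abel
    have h7 : u + u = -u := by
      funext i
      exact (by decide : ∀ x : ZMod 3, x + x = -x) (u i)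
    rw [h7] at h5
    have : u = -(a • w) := by
      rw [← h5, neg_neg]
    rw [this, neg_smul]
  have hl : ∀ l : ZMod 3, l = 0 ∨ l = 1 ∨ l = -1 := by decide
  rcases hl (-a) with h8 | h8 | h8
  · rw [h8, zero_smul] at h4
    rw [h4, QuadraticMap.map_zero] at hu
    exact absurd hu.symm hc
  · rw [h8, one_smul] at h4
    exact Or.inl h4.symm
  · rw [h8, neg_smul, one_smul] at h4
    right
    rw [h4, neg_neg]

/-- A central element of the reflection group is scalar. -/
theorem center_scalar {n : ℕ} (hn : 5 ≤ n) {Q : QuadraticForm (ZMod 3) (Fin n → ZMod 3)}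
    (hQ : (polarBilin Q).Nondegenerate) {c : ZMod 3} (hc : c ≠ 0) (z : reflectionSubgroup (⇑Q) c)
    (hz : z ∈ Subgroup.center (reflectionSubgroup (⇑Q) c)) :
    ∃ ε : ZMod 3, ε ≠ 0 ∧ ∀ x, (((z : isometryGroup (ZMod 3) ⇑Q) : GL (Fin n) (ZMod 3)) : Matrix (Fin n) (Fin n) (ZMod 3)) *ᵥ x = ε • x := by
  have hdim : 2 ≤ Module.finrank (ZMod 3) (Fin n → ZMod 3) := by simp; omega
  obtain ⟨v₀, hv₀⟩ := Cfsg.Agent.Lib.Orth.Closure.exists_Q_eq Q two_ne hQ hdim c
  set L : (Fin n → ZMod 3) → (Fin n → ZMod 3) := fun x =>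
    (((z : isometryGroup (ZMod 3) ⇑Q) : GL (Fin n) (ZMod 3)) : Matrix (Fin n) (Fin n) (ZMod 3)) *ᵥ x with hL
  have hL_iso : ∀ x, Q (L x) = Q x := fun x => (mem_isometryGroup_iff _ _).1 z.1.2 x
  -- the action on norm-`c` vectors
  have hL_pm : ∀ v, Q v = c → L v = v ∨ L v = -v := by
    intro v hv
    have hcomm : z * rR Q v hv * z⁻¹ = rR Q v hv := by
      rw [(Subgroup.mem_center_iff.1 hz (rR Q v hv)).symm]
      group
    have h1 : rG Q v = rG Q (L v) := by
      have h2 := congrArg Subtype.val hcomm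
      have h3 : (z : isometryGroup (ZMod 3) ⇑Q) * rG Q v * (z : isometryGroup (ZMod 3) ⇑Q)⁻¹ = rG Q v := h2
      rw [conj_rG] at h3
      exact h3.symm
    exact eq_or_neg_of_rG hc hv ((hL_iso v).trans hv) h1
  -- commutation with reflection group elements
  have hL_comm : ∀ (g : reflectionSubgroup (⇑Q) c) x,
      L (((g : isometryGroup (ZMod 3) ⇑Q) : GL (Fin n) (ZMod 3)).val *ᵥ x) =
        ((g : isometryGroup (ZMod 3) ⇑Q) : GL (Fin n) (ZMod 3)).val *ᵥ (L x) := by
    intro g x
    have h := Subgroup.mem_center_iff.1 hz g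
    have h2 : ((g * z : reflectionSubgroup (⇑Q) c) : isometryGroup (ZMod 3) ⇑Q) =
      ((z * g : reflectionSubgroup (⇑Q) c) : isometryGroup (ZMod 3) ⇑Q) := congrArg Subtype.val h
    have h3 := congrArg (fun t : isometryGroup (ZMod 3) ⇑Q => ((t : GL (Fin n) (ZMod 3)) : Matrix (Fin n) (Fin n) (ZMod 3)) *ᵥ x) h2
    simp only [Subgroup.coe_mul, Units.val_mul, ← Matrix.mulVec_mulVec] at h3
    exact h3.symm
  -- the scalar
  obtain ⟨ε, hε0, hε⟩ : ∃ ε : ZMod 3, ε ≠ 0 ∧ L v₀ = ε • v₀ := by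
    rcases hL_pm v₀ hv₀ with h | h
    · exact ⟨1, one_ne_zero, by rw [h, one_smul]⟩
    · exact ⟨-1, by decide, by rw [h, neg_smul, one_smul]⟩
  have hL_add : ∀ x y, L (x + y) = L x + L y := fun x y => Matrix.mulVec_add _ _ _
  -- all vectors of norm `c`
  have h_norm : ∀ v, Q v = c → L v = ε • v := by
    intro v hv
    obtain ⟨g, hg⟩ := conj_rR hn hQ hc hv₀ hv
    have h1 : rG Q (((g : isometryGroup (ZMod 3) ⇑Q) : GL (Fin n) (ZMod 3)).val *ᵥ v₀) = rG Q v := by
      have h2 := congrArg Subtype.val hg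
      have h3 : (g : isometryGroup (ZMod 3) ⇑Q) * rG Q v₀ * (g : isometryGroup (ZMod 3) ⇑Q)⁻¹ = rG Q v := h2
      rw [conj_rG] at h3
      exact h3
    have hgv : Q (((g : isometryGroup (ZMod 3) ⇑Q) : GL (Fin n) (ZMod 3)).val *ᵥ v₀) = c :=
      ((mem_isometryGroup_iff _ _).1 g.1.2 v₀).trans hv₀
    have hgL : L (((g : isometryGroup (ZMod 3) ⇑Q) : GL (Fin n) (ZMod 3)).val *ᵥ v₀) =
        ε • (((g : isometryGroup (ZMod 3) ⇑Q) : GL (Fin n) (ZMod 3)).val *ᵥ v₀) := by
      rw [hL_comm, hε, Matrix.mulVec_smul]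
    have hneg : ∀ x, L (-x) = - L x := fun x => Matrix.mulVec_neg _ _
    rcases eq_or_neg_of_rG hc hgv hv h1 with h | h
    · rw [h]; exact hgL
    · rw [h, hneg, hgL, smul_neg]
  have hv₀0 : Q v₀ ≠ 0 := hv₀ ▸ hc
  -- singular vectors
  have h_sing : ∀ x, Q x = 0 → L x = ε • x := by
    intro x hx
    obtain ⟨y, _, hy2, hy3⟩ := exists_norm_perp hn hQ x hv₀0 hc
    have h1 : Q (x + y) = c := by
      rw [Cfsg.Agent.Lib.Orth.Refl.Q_add, hx, hy3, hy2]
      ring
    have h2 := h_norm _ h1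
    rw [hL_add, h_norm y hy3, smul_add] at h2
    exact add_right_cancel h2
  refine ⟨ε, hε0, ?_⟩
  intro x
  rcases cases_ne hc (Q x) with h | h | h
  · exact h_sing x h
  · exact h_norm x h
  · obtain ⟨y, _, hy2, hy3⟩ := exists_norm_perp hn hQ x hv₀0 hc
    have h1 : Q (x + y) = 0 := by
      rw [Cfsg.Agent.Lib.Orth.Refl.Q_add, h, hy3, hy2]
      ring
    have h2 := h_sing _ h1
    rw [hL_add, h_norm y hy3, smul_add] at h2
    exact add_right_cancel h2

/-! ### Back to the hyperbolic form -/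

theorem index_R {c : ZMod 3} (hc : c ≠ 0) : (reflectionSubgroup (⇑P8) c).index = 2 := by
  rw [← index_R' hc, ← map_R c]
  exact (Subgroup.index_map_equiv _ Phi).symm

theorem index_comm_R {c : ZMod 3} (hc : c ≠ 0) : (commutator (reflectionSubgroup (⇑P8) c)).index ≤ 2 := by
  rw [← index_commutator_equiv (PhiR c)]
  exact index_comm_R' hc

theorem center_R {c : ZMod 3} (hc : c ≠ 0) (z : reflectionSubgroup (⇑P8) c)
    (hz : z ∈ Subgroup.center (reflectionSubgroup (⇑P8) c)) :
    (((z : isometryGroup (ZMod 3) ⇑P8) : GL I8 (ZMod 3)) : Matrix I8 I8 (ZMod 3)) = 1 ∨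
      (((z : isometryGroup (ZMod 3) ⇑P8) : GL I8 (ZMod 3)) : Matrix I8 I8 (ZMod 3)) = -1 := by
  have hz' : PhiR c z ∈ Subgroup.center (reflectionSubgroup (⇑Q8') c) := by
    rw [Subgroup.mem_center_iff] at hz ⊢
    intro g
    obtain ⟨g', rfl⟩ := (PhiR c).surjective g
    rw [← map_mul, ← map_mul, hz]
  obtain ⟨ε, hε0, hε⟩ := center_scalar (by norm_num) Q8'_nondeg hc _ hz'
  have h1 : ∀ x, (((z : isometryGroup (ZMod 3) ⇑P8) : GL I8 (ZMod 3)) : Matrix I8 I8 (ZMod 3)) *ᵥ x = ε • x := by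
    intro x
    apply psi8.injective
    rw [← Phi_mulVec, map_smul]
    exact hε (psi8 x)
  have h2 : (((z : isometryGroup (ZMod 3) ⇑P8) : GL I8 (ZMod 3)) : Matrix I8 I8 (ZMod 3)) = ε • 1 := by
    apply Matrix.mulVec_injective
    funext x
    rw [h1, Matrix.smul_mulVec, Matrix.one_mulVec]
  have hl : ∀ l : ZMod 3, l ≠ 0 → l = 1 ∨ l = -1 := by decide
  rcases hl ε hε0 with h | h
  · left
    rw [h2, h, one_smul]
  · right
    rw [h2, h, neg_smul, one_smul]

/-- `-1 ∈ Ω`. -/
theorem exists_neg : ∃ g : isometryGroup (ZMod 3) ⇑P8, g ∈ Omega (ZMod 3) ⇑P8 ∧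
    ((g : GL I8 (ZMod 3)) : Matrix I8 I8 (ZMod 3)) = -1 :=
  (Cfsg.Agent.S0790.result (F := ZMod 3) (q := 3) (by rw [ZMod.card]) (by decide) 4 (by norm_num)).2 (by norm_num)

theorem card_center_Omega : Nat.card (Subgroup.center (Omega (ZMod 3) ⇑P8)) = 2 :=
  Cfsg.Agent.Lib.Classical.QuadEichBridge.card_center_of_neg P8 (plusForm_nondeg 4) (by simp) (by decide) exists_neg

theorem Omega_le {c : ZMod 3} (hc : c ≠ 0) : commutator (isometryGroup (ZMod 3) ⇑P8) ≤ reflectionSubgroup (⇑P8) c :=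
  Cfsg.Agent.Lib.OrthRefl.IndexTwo.commutator_le_of_index_two _ (index_R hc)

theorem index_Omega : (Omega (ZMod 3) ⇑P8).index = 4 :=
  Cfsg.Agent.Lib.Orth.Closure.index_Omega_odd P8 (by decide) (by simp) (plusForm_nondeg 4)

/-- Inside `R`, the commutator subgroup is `Ω` and has index `2`. -/
theorem comm_R_eq {c : ZMod 3} (hc : c ≠ 0) :
    commutator (reflectionSubgroup (⇑P8) c) =
      (commutator (isometryGroup (ZMod 3) ⇑P8)).subgroupOf (reflectionSubgroup (⇑P8) c) ∧
    (commutator (reflectionSubgroup (⇑P8) c)).index = 2 := by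
  set R := reflectionSubgroup (⇑P8) c with hR
  set W := (commutator (isometryGroup (ZMod 3) ⇑P8)).subgroupOf R with hW
  have hWi : W.index = 2 := by
    have h1 : (commutator (isometryGroup (ZMod 3) ⇑P8)).relIndex R * R.index =
        (commutator (isometryGroup (ZMod 3) ⇑P8)).index := Subgroup.relIndex_mul_index (Omega_le hc)
    have h0 : (commutator (isometryGroup (ZMod 3) ⇑P8)).index = 4 := index_Omega
    have h00 : R.index = 2 := index_R hc
    rw [h00, h0] at h1
    have h2 : W.index = (commutator (isometryGroup (ZMod 3) ⇑P8)).relIndex R := rfl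
    rw [h2]
    omega
  have hle : commutator R ≤ W := by
    rw [commutator_def, hW]
    intro x hx
    rw [Subgroup.mem_subgroupOf]
    have : (x : isometryGroup (ZMod 3) ⇑P8) ∈ (commutator R).map R.subtype := ⟨x, hx, rfl⟩
    rw [map_commutator_eq, Subgroup.range_subtype] at this
    exact Subgroup.commutator_mono le_top le_top this
  have h1 := Subgroup.relIndex_mul_index hle
  have h2 : (commutator R).index ≤ 2 := index_comm_R hc
  rw [hWi] at h1
  have h3 : (commutator R).relIndex W = 1 := by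
    have h4 : (commutator R).relIndex W ≠ 0 := by
      intro h0
      rw [h0, zero_mul] at h1
      exact Subgroup.index_ne_zero_of_finite h1.symm
    omega
  have h5 : W ≤ commutator R := Subgroup.relIndex_eq_one.1 h3
  refine ⟨le_antisymm hle h5, ?_⟩
  rw [h3] at h1
  omega

/-- The element `-1` of `Ω`. -/
theorem center_Omega_cases (w : Omega (ZMod 3) ⇑P8) (hw : w ∈ Subgroup.center (Omega (ZMod 3) ⇑P8)) :
    (((w : isometryGroup (ZMod 3) ⇑P8) : GL I8 (ZMod 3)) : Matrix I8 I8 (ZMod 3)) = 1 ∨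
      (((w : isometryGroup (ZMod 3) ⇑P8) : GL I8 (ZMod 3)) : Matrix I8 I8 (ZMod 3)) = -1 := by
  obtain ⟨g, hg, hg1⟩ := exists_neg
  have hneg : ∀ (s t : isometryGroup (ZMod 3) ⇑P8), ((t : GL I8 (ZMod 3)) : Matrix I8 I8 (ZMod 3)) = -1 → s * t = t * s := by
    intro s t ht
    apply Subtype.ext
    apply Units.ext
    show (s : GL I8 (ZMod 3)).val * (t : GL I8 (ZMod 3)).val = (t : GL I8 (ZMod 3)).val * (s : GL I8 (ZMod 3)).val
    rw [ht]
    simp
  set y : Omega (ZMod 3) ⇑P8 := ⟨g, hg⟩ with hy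
  have hyc : y ∈ Subgroup.center (Omega (ZMod 3) ⇑P8) := by
    rw [Subgroup.mem_center_iff]
    intro s
    apply Subtype.ext
    exact hneg _ _ hg1
  have hy1 : y ≠ 1 := by
    intro h
    have h2 : g = 1 := congrArg Subtype.val h
    rw [h2] at hg1
    have h3 : (1 : Matrix I8 I8 (ZMod 3)) (Sum.inl 0) (Sum.inl 0) = (-1 : Matrix I8 I8 (ZMod 3)) (Sum.inl 0) (Sum.inl 0) :=
      congrFun (congrFun hg1 _) _
    simp at h3
    exact absurd h3 (by decide)
  have hcard := card_center_Omega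
  rw [Nat.card_eq_two_iff' (1 : Subgroup.center (Omega (ZMod 3) ⇑P8))] at hcard
  obtain ⟨u, hu1, hu2⟩ := hcard
  by_cases hw1 : w = 1
  · left
    rw [hw1]
    rfl
  · right
    have h1 : (⟨w, hw⟩ : Subgroup.center (Omega (ZMod 3) ⇑P8)) = ⟨y, hyc⟩ := by
      have h2 := hu2 ⟨w, hw⟩ (fun h => hw1 (congrArg Subtype.val h))
      have h3 := hu2 ⟨y, hyc⟩ (fun h => hy1 (congrArg Subtype.val h))
      rw [h2, h3]
    have h2 : w = y := congrArg Subtype.val h1
    rw [h2]
    exact hg1

theorem comm_equiv_P8 {c : ZMod 3} (hc : c ≠ 0) :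
    Nonempty (commutator (reflectionSubgroup (⇑P8) c ⧸ Subgroup.center (reflectionSubgroup (⇑P8) c)) ≃*
      POmega (ZMod 3) ⇑P8) := by
  have hscalar : ∀ (s t : isometryGroup (ZMod 3) ⇑P8),
      (((t : GL I8 (ZMod 3)) : Matrix I8 I8 (ZMod 3)) = 1 ∨ ((t : GL I8 (ZMod 3)) : Matrix I8 I8 (ZMod 3)) = -1) →
      s * t = t * s := by
    intro s t ht
    apply Subtype.ext
    apply Units.ext
    show (s : GL I8 (ZMod 3)).val * (t : GL I8 (ZMod 3)).val = (t : GL I8 (ZMod 3)).val * (s : GL I8 (ZMod 3)).val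
    rcases ht with ht | ht <;> rw [ht] <;> simp
  refine comm_quot_center (reflectionSubgroup (⇑P8) c) (Omega_le hc) ?_ ?_ ?_
  · rw [(comm_R_eq hc).1]
    rw [Subgroup.map_subgroupOf_eq_of_le (Omega_le hc)]
  · intro z hz
    have h1 := center_R hc z hz
    have hmem : (z : isometryGroup (ZMod 3) ⇑P8) ∈ commutator (isometryGroup (ZMod 3) ⇑P8) := by
      obtain ⟨g, hg, hg1⟩ := exists_neg
      rcases h1 with h1 | h1
      · have : (z : isometryGroup (ZMod 3) ⇑P8) = 1 := by
          apply Subtype.ext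
          apply Units.ext
          rw [h1]
          rfl
        rw [this]
        exact Subgroup.one_mem _
      · have : (z : isometryGroup (ZMod 3) ⇑P8) = g := by
          apply Subtype.ext
          apply Units.ext
          rw [h1, hg1]
        rw [this]
        exact hg
    refine ⟨hmem, ?_⟩
    rw [Subgroup.mem_center_iff]
    intro s
    apply Subtype.ext
    exact hscalar _ _ h1
  · intro w hw
    rw [Subgroup.mem_center_iff]
    intro s
    apply Subtype.ext
    exact hscalar _ _ (center_Omega_cases w hw)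

theorem index_comm_P8 {c : ZMod 3} (hc : c ≠ 0) :
    (commutator (reflectionSubgroup (⇑P8) c ⧸ Subgroup.center (reflectionSubgroup (⇑P8) c))).index = 2 := by
  set R := reflectionSubgroup (⇑P8) c with hR
  have hs : Function.Surjective (QuotientGroup.mk' (Subgroup.center R)) := QuotientGroup.mk'_surjective _
  have h1 : commutator (R ⧸ Subgroup.center R) = (commutator R).map (QuotientGroup.mk' (Subgroup.center R)) := by
    rw [map_commutator_eq, MonoidHom.range_eq_top.2 hs]
    rfl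
  rw [h1, Subgroup.index_map_eq _ hs, (comm_R_eq hc).2]
  rw [QuotientGroup.ker_mk']
  intro z hz
  rw [(comm_R_eq hc).1, Subgroup.mem_subgroupOf]
  obtain ⟨g, hg, hg1⟩ := exists_neg
  rcases center_R hc z hz with h1 | h1
  · have : (z : isometryGroup (ZMod 3) ⇑P8) = 1 := by
      apply Subtype.ext
      apply Units.ext
      rw [h1]
      rfl
    rw [this]
    exact Subgroup.one_mem _
  · have : (z : isometryGroup (ZMod 3) ⇑P8) = g := by
      apply Subtype.ext
      apply Units.ext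
      rw [h1, hg1]
    rw [this]
    exact hg

/-! ### The statements -/

/-- The commutator subgroup of the projective reflection group is `PΩ⁺(8,3)`. -/
theorem comm_equiv (c : ZMod 3) (hc : c ≠ 0) :
    Nonempty (commutator (reflectionSubgroup (quadFormPlus 4 (ZMod 3)) c ⧸
        Subgroup.center (reflectionSubgroup (quadFormPlus 4 (ZMod 3)) c)) ≃*
      POmega (ZMod 3) (quadFormPlus 4 (ZMod 3))) :=
  comm_equiv_P8 hc

/-- The commutator subgroup of the projective reflection group has index `2`. -/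
theorem index_comm (c : ZMod 3) (hc : c ≠ 0) :
    (commutator (reflectionSubgroup (quadFormPlus 4 (ZMod 3)) c ⧸
        Subgroup.center (reflectionSubgroup (quadFormPlus 4 (ZMod 3)) c))).index = 2 :=
  index_comm_P8 hc

/-- The order of `PΩ⁺(8,3)`. -/
theorem card_POmega : Nat.card (POmega (ZMod 3) (quadFormPlus 4 (ZMod 3))) = 4952179814400 := by
  have h := Cfsg.Agent.Lib.Classical.QuadEichBridge.card_POmega_plus (F := ZMod 3) (q := 3) (by rw [ZMod.card]) 4 (by norm_num)
  simp only [Finset.prod_range_succ, Finset.prod_range_zero] at h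
  norm_num at h
  omega

end Cfsg.Agent.Lib.ThreeT.Real.Eight
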