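import Cfsg.Agent.Lib.ThreeT.Real.D23
import Cfsg.Agent.Lib.ThreeT.Real.L22
import Cfsg.Agent.Lib.ThreeT.F23.DPts

/-!
# The presented group `Fi₂₃` is of type M(23)
-/

set_option autoImplicit false
set_option linter.unusedSectionVars false
set_option linter.unusedVariables false
set_option linter.style.longLine false
set_option maxRecDepth 100000

namespace Cfsg.Agent.Lib.ThreeT.Real.L23

open Cfsg QuadraticMap Cfsg.Agent.Lib.ThreeT.Real Cfsg.Agent.Lib.ThreeT.Rank3 Cfsg.Agent.Lib.ThreeT.Descent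
open Cfsg.Agent.Lib.TC.Core Cfsg.Agent.Lib.TC.Pres Cfsg.Agent.Lib.TC.Perm Cfsg.Agent.Lib.TC.Main
  Cfsg.Agent.Lib.TC.G.Fi23 Cfsg.Agent.Lib.TC.D.Fi23a.Tab Cfsg.Agent.Lib.TC.D.Fi23a.Orb Cfsg.Agent.Lib.TC.D.Fi23a.Ok Cfsg.Agent.Lib.TC.Chain
open Cfsg.Agent.Lib.TC.D.Fi23Z (H zH Eh F hcardH zH_order zH_comm hgenH)
open Cfsg.Agent.Lib.ThreeT.F23.Act Cfsg.Agent.Lib.ThreeT.F23.DPts Cfsg.Agent.Lib.ThreeT.Real.D23

/-- The group. -/
noncomputable abbrev E : Nat → Γ := K.E Rel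

/-- The model. -/
theorem mdl : Mdl E phi a0 zw where
  hval := act.hval
  htr := phi_trans
  hfix := fix_iff
  hE := Cfsg.Agent.Lib.TC.D.Fi23Z.hE
  haa := Cfsg.Agent.Lib.TC.D.Fi23Z.z_sq
  hbw := rfl
  hbl := Cfsg.Agent.Lib.TC.D.Fi23Z.zw_lt

/-- The class. -/
def D₃ : Set Γ := conjugatesOf a0

theorem hD (y : Γ) : y ∈ D₃ ↔ ∃ g : Γ, y = g * a0 * g⁻¹ := by
  show IsConj a0 y ↔ _
  rw [isConj_iff]
  constructor
  · rintro ⟨g, rfl⟩
    exact ⟨g, rfl⟩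
  · rintro ⟨g, rfl⟩
    exact ⟨g, rfl⟩

theorem hcj (g : Γ) (y : Γ) (hy : y ∈ D₃) : g * y * g⁻¹ ∈ D₃ := by
  obtain ⟨k, rfl⟩ := (hD y).1 hy
  exact (hD _).2 ⟨g * k, by group⟩

theorem hclass : IsThreeTranspositionClass D₃ := Cfsg.Agent.Lib.TC.D.Fi23Z.hmain.2.1

theorem center_bot : Subgroup.center Γ = ⊥ := by
  have := simple_Γ
  exact Level.center_eq_bot_of_simple Cfsg.Agent.Lib.TC.D.Fi23Z.hnc

/-- The word of the second member. -/
def u₁ : List Nat := [7]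
noncomputable abbrev wc : List Nat := tb.wc

theorem hwd : ∀ z ∈ zw, z < pt.k := Cfsg.Agent.Lib.TC.D.Fi23Z.zw_lt
theorem hu₁ : ∀ z ∈ u₁, z < pt.k := by decide
theorem hwc : ∀ z ∈ wc, z < pt.k := by decide

theorem hwc_eq : wc = Mdl.tw zw u₁ := by decide

theorem hc_x : prodA E wc = mdl.x ⟨pt.val u₁ 0, by decide +kernel⟩ := by
  rw [hwc_eq, mdl.prod_tw hu₁]
  congr 1
  apply Fin.ext
  rw [mdl.val_zero hu₁]

theorem hcD : prodA E wc ∈ D₃ := by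
  rw [hc_x]
  exact (hD _).2 ((mdl.mem_class _).2 ⟨_, rfl⟩)

theorem hdD : prodA E zw ∈ D₃ := by
  rw [mdl.hbw]
  exact (hD _).2 ⟨1, by group⟩

theorem hdc : ¬ Commute (prodA E zw) (prodA E wc) := by
  intro h
  have h5 := (mdl.comm_word_iff hwc 0).1 (by rw [mdl.x_zero, ← mdl.hbw]; exact h.symm)
  revert h5
  decide +kernel

/-- The polar norms. -/
noncomputable def w₀ : Fin 7 → ZMod 3 := ![1, 1, 2, 1, 2, 1, 2]

theorem hw₀ : ∀ i, w₀ i ≠ 0 := by decide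

theorem hq (x : Fin 7 → ZMod 3) : Qd w₀ x = q0 x := by
  rw [Qd_apply, Fin.sum_univ_seven]
  rfl

theorem hp (x y : Fin 7 → ZMod 3) : polar (Qd w₀) x y = pol0 x y := by
  rw [polar_Qd, Fin.sum_univ_seven]
  rfl

theorem hsel (p : Fin pt.n) : sel pt tb p.1 = true ↔ pt.val zw p.1 = p.1 ∧ pt.val wc p.1 = p.1 := by
  rw [sel_iff]
  constructor
  · rintro ⟨h1, h2, -⟩
    exact ⟨h1, h2⟩
  · rintro ⟨h1, h2⟩
    exact ⟨h1, h2, rfl⟩

/-- **The reflection part.** -/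
theorem hL : IsProjReflectionGroupModThree
    (↥(Subgroup.closure ({y : Γ | y ∈ D₃ ∧ y ≠ prodA E zw ∧ Commute (prodA E zw) y} ∩ {y : Γ | y ∈ D₃ ∧ y ≠ prodA E wc ∧ Commute (prodA E wc) y})) ⧸
      Subgroup.center ↥(Subgroup.closure ({y : Γ | y ∈ D₃ ∧ y ≠ prodA E zw ∧ Commute (prodA E zw) y} ∩ {y : Γ | y ∈ D₃ ∧ y ≠ prodA E wc ∧ Commute (prodA E wc) y}))) 7 (-1) 1 := by
  have hset : {y : Γ | y ∈ D₃ ∧ y ≠ prodA E zw ∧ Commute (prodA E zw) y} ∩ {y : Γ | y ∈ D₃ ∧ y ≠ prodA E wc ∧ Commute (prodA E wc) y} =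
      {y : Γ | ∃ p : Fin pt.n, sel pt tb p.1 = true ∧ y = mdl.x p} := by
    ext y
    rw [mdl.mem_T hD hwd hwc hdc y]
    constructor
    · rintro ⟨p, h1, h2, rfl⟩
      exact ⟨p, (hsel p).2 ⟨h1, h2⟩, rfl⟩
    · rintro ⟨p, h1, rfl⟩
      exact ⟨p, ((hsel p).1 h1).1, ((hsel p).1 h1).2, rfl⟩
  rw [hset]
  refine ⟨Qd w₀, Qd_nondeg w₀ hw₀, ?_, ?_⟩
  · rw [det_Qd, Fin.prod_univ_seven]
    decide
  · refine exists_iso mdl (Qd w₀) (q0 := q0) (pol0 := pol0) hq hp (by decide) hallI hS ?_ ?_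
    · intro p hp'
      exact rangeB_spec hrows p (by omega) (by omega)
    · intro v hv
      have h := allVec_spec 7 _ hsurj0 v
      rw [← hq, hv] at h
      simpa using h

/-! ### One level down -/

noncomputable abbrev AA : Subgroup Γ := H

theorem hAA (x : Γ) : Commute a0 x ↔ x ∈ AA := by
  have h1 : Subgroup.centralizer ({a0} : Set Γ) = H := Cfsg.Agent.Lib.TC.D.Fi23Z.hmain.1
  show _ ↔ x ∈ H
  rw [← h1, Subgroup.mem_centralizer_singleton_iff]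
  exact ⟨fun h => h.eq.symm, fun h => h.symm⟩

/-- The group one level down. -/
abbrev Γ₂ : Type := PresentedGroup Cfsg.Agent.Lib.TC.G.Fi22.Rel

theorem exists_psi' : ∃ ψ : Γ₂ ≃* (H ⧸ Subgroup.zpowers zH), ψ (Cfsg.Agent.Lib.ThreeT.F22.DPts.a0) = QuotientGroup.mk (Eh 0) := by
  obtain ⟨ψ, hψ⟩ := Cfsg.Agent.Lib.TC.D.Fi23Z.exists_psi
  have hfinH : Finite H := Nat.finite_of_card_ne_zero (by rw [hcardH]; norm_num)
  have hc22 : Nat.card (PresentedGroup Cfsg.Agent.Lib.TC.G.Fi22.Rel) = 64561751654400 :=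
    Cfsg.Agent.Lib.TC.D.Fi22Chain.Main.simple_card.2
  have hs : Function.Surjective ψ := by
    rw [← MonoidHom.range_eq_top, eq_top_iff]
    have h2 : Subgroup.map (QuotientGroup.mk' (Subgroup.zpowers zH))
        (Subgroup.closure (Eh '' {c | c < 9})) = ⊤ := by
      rw [hgenH]
      exact Subgroup.map_top_of_surjective _ (QuotientGroup.mk'_surjective _)
    rw [← h2, MonoidHom.map_closure, Subgroup.closure_le]
    rintro _ ⟨_, ⟨c, hc, rfl⟩, rfl⟩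
    exact ⟨_, hψ c hc⟩
  have hcq : Nat.card Cfsg.Agent.Lib.TC.D.Fi23Z.Q = 64561751654400 := by
    have h1 := Subgroup.card_eq_card_quotient_mul_card_subgroup (Subgroup.zpowers zH)
    rw [Nat.card_zpowers, zH_order, hcardH] at h1
    have h2 : Nat.card Cfsg.Agent.Lib.TC.D.Fi23Z.Q * 2 = 64561751654400 * 2 := by
      rw [show Nat.card Cfsg.Agent.Lib.TC.D.Fi23Z.Q * 2 = Nat.card (H ⧸ Subgroup.zpowers zH) * 2 from rfl, ← h1]
    exact Nat.eq_of_mul_eq_mul_right (by norm_num) h2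
  have hb : Function.Bijective ψ :=
    (Nat.bijective_iff_surjective_and_card ψ).2 ⟨hs, by rw [hc22, hcq]⟩
  exact ⟨MulEquiv.ofBijective ψ hb, hψ 0 (by decide)⟩

theorem Eh_zero : ((Eh 0 : H) : Γ) = e0 := by
  have h1 : Cfsg.Agent.Lib.TC.D.Fi23Z.wd 0 = [0] := by decide
  show prodA E (Cfsg.Agent.Lib.TC.D.Fi23Z.wd 0) = _
  rw [h1]
  simp [e0, E]

theorem he0 : (e0 : Γ) ∈ Da D₃ a0 := by
  refine ⟨?_, ?_, ?_⟩
  · exact (hD _).2 ⟨_, e0_eq⟩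
  · intro h
    have h1 := (mdl.x_eq (wv ua)).trans e0_eq.symm
    have h2 := mdl.x_inj (h1.trans (h.trans mdl.x_zero.symm))
    have h3 := congrArg Fin.val h2
    have h4 : ((phi (wv ua)) 0).1 = pt.val ua 0 := mdl.val_zero ua_lt
    rw [h4] at h3
    revert h3
    decide +kernel
  · have h1 := (Eh 0).2
    rw [Eh_zero] at h1
    exact (hAA _).2 h1

theorem a0_ne : a0 ≠ 1 := Cfsg.Agent.Lib.TC.D.Fi23Z.z_ne

theorem hlab3 (p : Fin pt.n) : lab p.1 < 3 :=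
  allBelow_spec (f := lab) (r := 3) (len := pt.n) (by decide +kernel) p.1 p.2

theorem hlab0 : lab (0 : Fin pt.n).1 = 0 := by decide +kernel

/-- The level. -/
theorem exists_χ : ∃ χ : Gd D₃ a0 ⧸ Subgroup.center (Gd D₃ a0) ≃* Γ₂, ∀ q, q ∈ Dq D₃ a0 ↔ χ q ∈ Cfsg.Agent.Lib.ThreeT.Real.L22.D₂ := by
  obtain ⟨ψ, hψ⟩ := exists_psi'
  haveI := Cfsg.Agent.Lib.ThreeT.F22.Act.simple_Γ
  let f₀ : AA →* Γ₂ := ψ.symm.toMonoidHom.comp (QuotientGroup.mk' (Subgroup.zpowers zH))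
  have hf₀ : Function.Surjective f₀ := ψ.symm.surjective.comp (QuotientGroup.mk'_surjective _)
  have hker : ∀ x : AA, f₀ x = 1 → (x : Γ) = 1 ∨ (x : Γ) = a0 := by
    intro x hx
    have h2 : (QuotientGroup.mk x : AA ⧸ Subgroup.zpowers zH) = 1 := by
      apply ψ.symm.injective
      rw [map_one]
      exact hx
    have h3 : x ∈ Subgroup.zpowers zH := (QuotientGroup.eq_one_iff x).1 h2
    have hcard : Nat.card (Subgroup.zpowers zH) = 2 := by rw [Nat.card_zpowers, zH_order]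
    have h5 : zH ≠ 1 := fun h => a0_ne (congrArg Subtype.val h)
    rcases Prim.eq_of_card_two _ hcard (Subgroup.mem_zpowers zH) h5 h3 with h6 | h6
    · left
      exact congrArg Subtype.val h6
    · right
      exact congrArg Subtype.val h6
  have he1 : ((Eh 0 : H) : Γ) ∈ Da D₃ a0 := by
    rw [Eh_zero]
    exact he0
  have hfe : f₀ (Eh 0) = Cfsg.Agent.Lib.ThreeT.F22.DPts.a0 := by
    show ψ.symm (QuotientGroup.mk (Eh 0)) = _
    rw [← hψ, ψ.symm_apply_apply]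
  have hne : f₀ (Eh 0) ≠ 1 := by
    rw [hfe]
    exact Cfsg.Agent.Lib.ThreeT.Real.L22.a0_ne
  obtain ⟨χ, hχ⟩ := Level.exists_level hcj Cfsg.Agent.Lib.ThreeT.Real.L22.center_bot AA hAA f₀ hf₀ hker (Eh 0) he1 hne
  refine ⟨χ, fun q => Level.level_match hcj AA hAA f₀ hf₀ (Eh 0) he1 χ hχ ?_ ?_ q⟩
  · intro y hy
    have hconn : ∀ i j : Fin pt.n, lab i.1 = lab j.1 → ∃ g ∈ AA, phi g i = j :=
      orbit_facts ok phi phi_spec lab oP oW oD repr hlab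
    refine Level.trans_of_lab mdl hD AA hAA (fun i => lab i.1) hconn 2 ?_ he1 hy
    exact Level.lab_of_reps mdl AA hAA (fun i => lab i.1) hconn hlab3 hlab0 (r₁ := ⟨1, by decide⟩) (by decide +kernel) (by decide +kernel)
  · intro y
    rw [hfe]
    exact Cfsg.Agent.Lib.ThreeT.Real.L22.hD y

/-- **The group is of type M(23).** -/
theorem main : IsThreeTranspositionClass D₃ ∧ IsPrimitiveUnderConj D₃ ∧ IsOfTypeM23 Γ D₃ := by
  have := simple_Γ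
  refine ⟨hclass, Prim.prim_simple Cfsg.Agent.Lib.TC.D.Fi23Z.hnc hclass ⟨_, hdD, _, hcD, fun h => hdc (by rw [h])⟩, center_bot, prodA E zw, hdD, prodA E wc, hcD, hdc, ?_, 1, by decide, hL⟩
  obtain ⟨χ, hχ⟩ := exists_χ
  have h1 := Cfsg.Agent.Lib.ThreeT.Real.L22.main.2.2
  rw [mdl.hbw]
  refine Cfsg.Agent.Lib.ThreeT.F23.isOfTypeM22_congr χ.symm ?_ h1
  intro x
  rw [show x ∈ Cfsg.Agent.Lib.ThreeT.Real.L22.D₂ ↔ χ (χ.symm x) ∈ Cfsg.Agent.Lib.ThreeT.Real.L22.D₂ by simp]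
  exact (hχ _).symm

end Cfsg.Agent.Lib.ThreeT.Real.L23
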