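import Cfsg.Agent.Lib.TC.D.Fi24Chain.OrbD

/-! # The labels of the points of `Fi₂₄` -/

set_option autoImplicit false
set_option maxRecDepth 1000000
set_option maxHeartbeats 0

namespace Cfsg.Agent.Lib.ThreeT.Real.Lab24

open Cfsg.Agent.Lib.TC.Core Cfsg.Agent.Lib.TC.Chain Cfsg.Agent.Lib.TC.D.Fi24a.Tab Cfsg.Agent.Lib.TC.D.Fi24Chain.OrbD

theorem hlab3 : ∀ p, p < pt.n → lab p < 3 :=
  allBelow_spec (f := lab) (r := 3) (len := pt.n) (by decide +kernel)

theorem hlab0 : lab 0 = 0 := by decide +kernel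

theorem hlab1 : lab 1 = 1 := by decide +kernel

end Cfsg.Agent.Lib.ThreeT.Real.Lab24
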