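import Mathlib
import Cfsg.Agent.Lib.ThreeT.Real.Eight

/-!
A group `L` of order at most `6 |PΩ⁺(8,3)|` with a non-normal subgroup `W` such that `W / Z(W)` is the
projective reflection group of `O⁺(8,3)`: `L / Z(L)` is `PΩ⁺(8,3).S₃`.
-/

set_option autoImplicit false

namespace Cfsg.Agent.Lib.ThreeT.Real.Tri

open Cfsg Subgroup

theorem center_bot_of_simple {P : Type*} [Group P] [IsSimpleGroup P] (h : ¬ (Nat.card P).Prime) :
    Subgroup.center P = ⊥ := by
  rcases IsSimpleGroup.eq_bot_or_eq_top_of_normal (Subgroup.center P) inferInstance with h1 | h1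
  · exact h1
  · exfalso
    apply h
    haveI : IsMulCommutative P := ⟨⟨fun a b => by
      have ha : a ∈ Subgroup.center P := by rw [h1]; trivial
      exact (Subgroup.mem_center_iff.1 ha b).symm⟩⟩
    exact Group.is_simple_iff_prime_card.1 inferInstance

/-- The commutator subgroups of isomorphic groups. -/
noncomputable def commEquiv {G H : Type*} [Group G] [Group H] (e : G ≃* H) : commutator G ≃* commutator H :=
  (e.subgroupMap (commutator G)).trans (MulEquiv.subgroupCongr (by
    have h : (commutator G).map e.toMonoidHom = commutator H := by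
      rw [map_commutator_eq]
      have : e.toMonoidHom.range = ⊤ := MonoidHom.range_eq_top.2 e.surjective
      rw [this]
      rfl
    exact h))

theorem abstract_main {L P : Type*} [Group L] [Finite L] [Group P] [IsSimpleGroup P]
    (hP : ¬ (Nat.card P).Prime) (W : Subgroup L) (hidx : W.index = 3) (hnn : ¬ W.Normal)
    (e : commutator W ≃* P) (hcomm : (commutator W).index = 2) :
    ∃ (N : Subgroup (L ⧸ Subgroup.center L)) (_ : N.Normal), Nonempty (↥N ≃* P) ∧
      Nonempty ((L ⧸ Subgroup.center L) ⧸ N ≃* Equiv.Perm (Fin 3)) := by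
  classical
  set K := W.normalCore with hK
  have hKle : K ≤ W := normalCore_le W
  have hKne : K ≠ W := fun h => hnn (h ▸ normalCore_normal W)
  have hcard3 : Nat.card (L ⧸ W) = 3 := hidx
  haveI hfin : Finite (L ⧸ W) := inferInstance
  obtain ⟨eF⟩ : Nonempty ((L ⧸ W) ≃ Fin 3) := ⟨Finite.equivFinOfCardEq hcard3⟩
  let φ : L →* Equiv.Perm (Fin 3) :=
    (Equiv.permCongrHom eF).toMonoidHom.comp (MulAction.toPermHom L (L ⧸ W))
  have hker : φ.ker = K := by
    rw [hK, normalCore_eq_ker]
    ext g
    rw [MonoidHom.mem_ker, MonoidHom.mem_ker]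
    show (Equiv.permCongrHom eF) _ = 1 ↔ _
    rw [map_eq_one_iff _ (Equiv.permCongrHom eF).injective]
  have hcardS : Nat.card (Equiv.Perm (Fin 3)) = 6 := by
    rw [Nat.card_perm]
    simp
    rfl
  have hdvd : K.index ∣ 6 := by
    rw [← hker, index_ker, ← hcardS]
    exact Subgroup.card_subgroup_dvd_card _
  have h3 : K.relIndex W * W.index = K.index := relIndex_mul_index hKle
  have hrel1 : K.relIndex W ≠ 1 := fun h => hKne (le_antisymm hKle (relIndex_eq_one.1 h))
  have hrel0 : K.relIndex W ≠ 0 := by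
    intro h0
    rw [h0, zero_mul] at h3
    exact index_ne_zero_of_finite h3.symm
  rw [hidx] at h3
  have hK6 : K.index = 6 := by
    have h6 : 0 < K.index := Nat.pos_of_ne_zero index_ne_zero_of_finite
    have h7 := Nat.le_of_dvd (by norm_num) hdvd
    omega
  have hrel2 : K.relIndex W = 2 := by omega
  have hsurj : Function.Surjective φ := by
    have h1 : Nat.card φ.range = 6 := by
      rw [← index_ker, hker, hK6]
    have h2 : φ.range = ⊤ := Subgroup.eq_top_of_card_eq _ (by rw [h1, hcardS])
    exact MonoidHom.range_eq_top.1 h2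
  -- the commutator subgroup of `W`
  have hK₀idx : ((commutator W).map W.subtype).index = 6 := by
    rw [index_map_subtype, hcomm, hidx]
  have hK₀le : (commutator W).map W.subtype ≤ K := by
    have h1 : commutator W ≤ K.subgroupOf W :=
      Cfsg.Agent.Lib.OrthRefl.IndexTwo.commutator_le_of_index_two _ hrel2
    rintro _ ⟨x, hx, rfl⟩
    exact h1 hx
  have hK₀K : (commutator W).map W.subtype = K := by
    apply le_antisymm hK₀le
    have h1 := relIndex_mul_index hK₀le
    rw [hK₀idx, hK6] at h1
    have h2 : ((commutator W).map W.subtype).relIndex K = 1 := by omega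
    exact relIndex_eq_one.1 h2
  let eK : K ≃* P := (MulEquiv.subgroupCongr hK₀K.symm).trans
    (((commutator W).equivMapOfInjective W.subtype W.subtype_injective).symm.trans e)
  -- the centre of `L`
  have hS : ∀ x : Equiv.Perm (Fin 3), (∀ y, x * y = y * x) → x = 1 := by decide
  have hZK : Subgroup.center L ≤ K := by
    intro z hz
    rw [← hker, MonoidHom.mem_ker]
    apply hS
    intro y
    obtain ⟨g, rfl⟩ := hsurj y
    rw [← map_mul, ← map_mul, (Subgroup.mem_center_iff.1 hz g)]
  have hZP := center_bot_of_simple hP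
  have hZ1 : Subgroup.center L = ⊥ := by
    rw [Subgroup.eq_bot_iff_forall]
    intro z hz
    have h1 : eK ⟨z, hZK hz⟩ ∈ Subgroup.center P := by
      rw [Subgroup.mem_center_iff]
      intro y
      obtain ⟨k, rfl⟩ := eK.surjective y
      rw [← map_mul, ← map_mul]
      congr 1
      apply Subtype.ext
      exact Subgroup.mem_center_iff.1 hz _
    rw [hZP, Subgroup.mem_bot] at h1
    have h2 : (⟨z, hZK hz⟩ : K) = 1 := (map_eq_one_iff eK eK.injective).1 h1
    exact congrArg Subtype.val h2
  -- conclusion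
  have hinj : Function.Injective (QuotientGroup.mk' (Subgroup.center L)) := by
    rw [← MonoidHom.ker_eq_bot_iff, QuotientGroup.ker_mk']
    exact hZ1
  let β : L ≃* L ⧸ Subgroup.center L :=
    MulEquiv.ofBijective (QuotientGroup.mk' (Subgroup.center L)) ⟨hinj, QuotientGroup.mk'_surjective _⟩
  have hNn : (K.map (β : L →* L ⧸ Subgroup.center L)).Normal :=
    Subgroup.Normal.map (normalCore_normal W) _ β.surjective
  refine ⟨K.map (β : L →* L ⧸ Subgroup.center L), hNn, ⟨(β.subgroupMap K).symm.trans eK⟩, ?_⟩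
  haveI : K.Normal := normalCore_normal W
  exact ⟨(QuotientGroup.congr K _ β rfl).symm.trans
    ((QuotientGroup.quotientMulEquivOfEq hker.symm).trans (QuotientGroup.quotientKerEquivOfSurjective φ hsurj))⟩

theorem main {L : Type*} [Group L] [Finite L] (W : Subgroup L) (c : ZMod 3) (hc : c ≠ 0)
    (χ : (↥W ⧸ Subgroup.center ↥W) ≃* (↥(reflectionSubgroup (quadFormPlus 4 (ZMod 3)) c) ⧸
      Subgroup.center ↥(reflectionSubgroup (quadFormPlus 4 (ZMod 3)) c)))
    (hcard : Nat.card L ≤ 6 * 4952179814400) (hnn : ¬ W.Normal) :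
    ∃ (N : Subgroup (L ⧸ Subgroup.center L)) (_ : N.Normal),
      Nonempty (↥N ≃* POmega (ZMod 3) (quadFormPlus 4 (ZMod 3))) ∧
      Nonempty ((L ⧸ Subgroup.center L) ⧸ N ≃* Equiv.Perm (Fin 3)) := by
  classical
  obtain ⟨eP⟩ := Cfsg.Agent.Lib.ThreeT.Real.Eight.comm_equiv c hc
  have hRB := Cfsg.Agent.Lib.ThreeT.Real.Eight.index_comm c hc
  have hm := Cfsg.Agent.Lib.ThreeT.Real.Eight.card_POmega
  have hRBcard : Nat.card (↥(reflectionSubgroup (quadFormPlus 4 (ZMod 3)) c) ⧸
      Subgroup.center ↥(reflectionSubgroup (quadFormPlus 4 (ZMod 3)) c)) = 2 * 4952179814400 := by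
    rw [← Subgroup.card_mul_index (commutator _), hRB, Nat.card_congr eP.toEquiv, hm]
  have hW1 : Nat.card W = (2 * 4952179814400) * Nat.card (Subgroup.center W) := by
    rw [Subgroup.card_eq_card_quotient_mul_card_subgroup (Subgroup.center W), Nat.card_congr χ.toEquiv, hRBcard]
  have hL1 : Nat.card W * W.index = Nat.card L := Subgroup.card_mul_index W
  have hzpos : 0 < Nat.card (Subgroup.center W) := Nat.card_pos
  have hi0 : W.index ≠ 0 := index_ne_zero_of_finite
  have hi1 : W.index ≠ 1 := fun h => hnn ((Subgroup.index_eq_one.1 h) ▸ inferInstance)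
  have hi2 : W.index ≠ 2 := fun h => hnn (Subgroup.normal_of_index_eq_two h)
  have hi3 : 3 ≤ W.index := by omega
  have hprod : Nat.card (Subgroup.center W) * W.index ≤ 3 := by
    rw [hW1] at hL1
    have h1 : (2 * 4952179814400) * (Nat.card (Subgroup.center W) * W.index) ≤ 6 * 4952179814400 := by
      rw [← mul_assoc, hL1]
      exact hcard
    omega
  have hidx : W.index = 3 := by
    have : Nat.card (Subgroup.center W) * 3 ≤ Nat.card (Subgroup.center W) * W.index :=
      Nat.mul_le_mul_left _ hi3
    have h4 : W.index ≤ Nat.card (Subgroup.center W) * W.index := Nat.le_mul_of_pos_left _ hzpos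
    omega
  have hz1 : Nat.card (Subgroup.center W) = 1 := by
    rw [hidx] at hprod
    omega
  have hZ : Subgroup.center W = ⊥ := Subgroup.eq_bot_of_card_eq _ hz1
  have hinj : Function.Injective (QuotientGroup.mk' (Subgroup.center W)) := by
    rw [← MonoidHom.ker_eq_bot_iff, QuotientGroup.ker_mk']
    exact hZ
  let e₀ : W ≃* W ⧸ Subgroup.center W :=
    MulEquiv.ofBijective (QuotientGroup.mk' (Subgroup.center W)) ⟨hinj, QuotientGroup.mk'_surjective _⟩
  let e₁ := e₀.trans χ
  haveI hs : IsSimpleGroup (POmega (ZMod 3) (quadFormPlus 4 (ZMod 3))) :=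
    Cfsg.Agent.Lib.Classical.QuadEichBridge.isSimple_plus 4 (by norm_num)
  refine abstract_main (P := POmega (ZMod 3) (quadFormPlus 4 (ZMod 3))) ?_ W hidx hnn
    ((commEquiv e₁).trans eP) ?_
  · rw [hm]
    norm_num
  · rw [← Cfsg.Agent.Lib.ThreeT.Real.Eight.index_commutator_equiv e₁]
    exact hRB

end Cfsg.Agent.Lib.ThreeT.Real.Tri
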