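import Cfsg.Agent.Lib.ThreeT.Real.D24
import Cfsg.Agent.Lib.ThreeT.Real.L23
import Cfsg.Agent.Lib.ThreeT.Real.Tri
import Cfsg.Agent.Lib.ThreeT.Real.Lab24
import Cfsg.Agent.Lib.TC.F24.Abs
import Cfsg.Agent.Lib.ThreeT.M24d

/-!
# A group with the tables of `Fi₂₄` is of type M(24)
-/

set_option autoImplicit false
set_option linter.unusedSectionVars false
set_option linter.unusedVariables false
set_option linter.style.longLine false
set_option linter.style.haveILetI false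
set_option maxRecDepth 100000

namespace Cfsg.Agent.Lib.ThreeT.Real.L24

open scoped commutatorElement

open Cfsg.Agent.Lib.Orth.Forms
open Cfsg QuadraticMap Cfsg.Agent.Lib.ThreeT.Real Cfsg.Agent.Lib.ThreeT.Rank3 Cfsg.Agent.Lib.ThreeT.Descent
open Cfsg.Agent.Lib.TC.Core Cfsg.Agent.Lib.TC.Perm Cfsg.Agent.Lib.TC.Chain
  Cfsg.Agent.Lib.TC.D.Fi24a.Tab Cfsg.Agent.Lib.TC.D.Fi24Chain.OrbD Cfsg.Agent.Lib.ThreeT.Real.D24

instance npos : NeZero pt.n := ⟨by decide +kernel⟩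

/-- The group one level down. -/
abbrev Γ₃ : Type := PresentedGroup Cfsg.Agent.Lib.TC.G.Fi23.Rel

variable {G : Type} [Group G]

/-- What is used of the tables of `Fi₂₄`. -/
structure Hyp (E : Nat → G) (ρ : G →* Equiv.Perm (Fin pt.n)) : Prop where
  fin : Finite G
  card : Nat.card G = 2 * 1255205709190661721292800
  hval : ∀ l : List Nat, (∀ z ∈ l, z < pt.k) → ∀ i : Fin pt.n, (ρ (prodA E l) i).1 = pt.val l i.1
  htr : ∀ i : Fin pt.n, ∃ g, ρ g 0 = i
  hinj : Function.Injective ρ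
  hE : ∀ c, c < pt.k → E c * E c = 1
  hfix : ∀ g, ρ g 0 = 0 ↔ g * E 0 = E 0 * g
  hclass : IsThreeTranspositionClass (conjugatesOf (E 0))
  hsimple : ∃ H : Subgroup G, H.index = 2 ∧ IsSimpleGroup H ∧ ∃ x y : H, x * y ≠ y * x
  hconn : ∀ i j : Fin pt.n, lab i.1 = lab j.1 → ∃ g, ρ g 0 = 0 ∧ ρ g i = j
  hsize : {i : Fin pt.n | lab i.1 = 1}.ncard = 275264
  hθ : ∃ θ : Γ₃ →* G, Function.Injective θ ∧ (∀ x, θ x * E 0 = E 0 * θ x) ∧
    θ (Cfsg.Agent.Lib.TC.G.Fi23.K.E Cfsg.Agent.Lib.TC.G.Fi23.Rel 0) = E 2 * E 0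
  hE2 : E 2 ∈ Da (conjugatesOf (E 0)) (E 0)

variable {E : Nat → G} {ρ : G →* Equiv.Perm (Fin pt.n)} (H : Hyp E ρ)

include H

/-- The model. -/
theorem mdl : Mdl E ρ (E 0) [0] where
  hval := H.hval
  htr := H.htr
  hfix := H.hfix
  hE := H.hE
  haa := H.hE 0 (by decide)
  hbw := by simp
  hbl := by decide

omit H in
/-- The class. -/
theorem hD (y : G) : y ∈ conjugatesOf (E 0) ↔ ∃ g : G, y = g * E 0 * g⁻¹ := by
  show IsConj (E 0) y ↔ _
  rw [isConj_iff]
  constructor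
  · rintro ⟨g, rfl⟩
    exact ⟨g, rfl⟩
  · rintro ⟨g, rfl⟩
    exact ⟨g, rfl⟩

omit H in
theorem hcj (g : G) (y : G) (hy : y ∈ conjugatesOf (E 0)) : g * y * g⁻¹ ∈ conjugatesOf (E 0) := by
  obtain ⟨k, rfl⟩ := (hD y).1 hy
  exact (hD _).2 ⟨g * k, by group⟩

theorem center_bot : Subgroup.center G = ⊥ := by
  rw [eq_bot_iff]
  intro z hz
  rw [Subgroup.mem_bot]
  apply H.hinj
  rw [map_one]
  ext i
  obtain ⟨g, rfl⟩ := H.htr i
  have h1 : ρ z 0 = 0 := (H.hfix z).2 (Subgroup.mem_center_iff.1 hz (E 0)).symm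
  have h2 : z * g = g * z := (Subgroup.mem_center_iff.1 hz g).symm
  rw [← Equiv.Perm.mul_apply, ← map_mul, h2, map_mul, Equiv.Perm.mul_apply, h1]
  rfl

/-- The word of the second member. -/
abbrev wc : List Nat := [1, 0, 1]

omit H in
theorem hwd : ∀ z ∈ ([0] : List Nat), z < pt.k := by decide
omit H in
theorem hwc : ∀ z ∈ wc, z < pt.k := by decide
omit H in
theorem hu₁ : ∀ z ∈ ([1] : List Nat), z < pt.k := by decide
omit H in
theorem hwc_eq : wc = Mdl.tw [0] [1] := rfl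

omit H in
/-- The point of the second member. -/
noncomputable def pc : Fin pt.n := ⟨pt.val [1] 0, by decide +kernel⟩

omit H in
theorem pc_val : pc.1 = pt.val [1] 0 := rfl

omit H in
theorem hlab_pc : lab pc.1 = 1 := by
  rw [pc_val]
  decide +kernel

theorem hc_x : prodA E wc = (mdl H).x pc := by
  rw [hwc_eq, (mdl H).prod_tw hu₁]
  congr 1
  apply Fin.ext
  rw [(mdl H).val_zero hu₁, pc_val]

theorem hcD : prodA E wc ∈ conjugatesOf (E 0) := by
  rw [hc_x H]
  exact (hD _).2 (((mdl H).mem_class _).2 ⟨_, rfl⟩)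

theorem hdD : prodA E [0] ∈ conjugatesOf (E 0) := by
  rw [(mdl H).hbw]
  exact (hD _).2 ⟨1, by group⟩

theorem hdc : ¬ Commute (prodA E [0]) (prodA E wc) := by
  intro h
  have h5 := ((mdl H).comm_word_iff hwc 0).1 (by rw [(mdl H).x_zero, ← (mdl H).hbw]; exact h.symm)
  revert h5
  decide +kernel

/-! ### One level down -/

omit H in
theorem hA (x : G) : Commute (E 0) x ↔ x ∈ Subgroup.centralizer ({E 0} : Set G) := by
  rw [Subgroup.mem_centralizer_singleton_iff]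
  exact ⟨fun h => h.eq.symm, fun h => h.symm⟩

theorem hAfix (g : G) : g ∈ Subgroup.centralizer ({E 0} : Set G) ↔ ρ g 0 = 0 := by
  rw [Subgroup.mem_centralizer_singleton_iff, H.hfix]

theorem hcardA : Nat.card (Subgroup.centralizer ({E 0} : Set G)) = 2 * 4089470473293004800 := by
  have := H.fin
  have h0 := Cfsg.Agent.Lib.TC.F24.index_stab ρ H.htr (Subgroup.centralizer ({E 0} : Set G)) (hAfix H)
  have h1 := Subgroup.card_mul_index (Subgroup.centralizer ({E 0} : Set G))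
  rw [h0, H.card] at h1
  have h2 : pt.n = 306936 := by decide +kernel
  rw [h2] at h1
  exact Nat.eq_of_mul_eq_mul_right (by norm_num : 0 < 306936) (h1.trans (by norm_num))

/-- The involution in the centralizer. -/
noncomputable def tA : Subgroup.centralizer ({E 0} : Set G) := ⟨E 0, (hA _).1 (Commute.refl _)⟩

omit H in
theorem tA_central (g : Subgroup.centralizer ({E 0} : Set G)) : g * tA = tA * g := by
  apply Subtype.ext
  exact ((hA _).2 g.2).eq.symm

omit H in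
instance tA_normal : (Subgroup.zpowers (tA : Subgroup.centralizer ({E 0} : Set G))).Normal := by
  refine ⟨?_⟩
  rintro _ ⟨k, rfl⟩ g
  refine ⟨k, ?_⟩
  have h1 : g * (tA : Subgroup.centralizer ({E 0} : Set G)) * g⁻¹ = tA := by
    rw [tA_central g]
    group
  show (tA : Subgroup.centralizer ({E 0} : Set G)) ^ k = g * tA ^ k * g⁻¹
  rw [← conj_zpow, h1]

theorem E0_ne : E 0 ≠ 1 := by
  intro h
  have h1 : (mdl H).x ⟨1, by decide +kernel⟩ = (mdl H).x 0 := by
    rw [(mdl H).x_zero]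
    obtain ⟨i, hi⟩ := (mdl H).htr ⟨1, by decide +kernel⟩
    rw [← hi, (mdl H).x_eq, h]
    group
  have h2 := (mdl H).x_inj h1
  exact absurd (congrArg Fin.val h2) (by decide +kernel)

theorem tA_order : orderOf (tA : Subgroup.centralizer ({E 0} : Set G)) = 2 := by
  have : Fact (Nat.Prime 2) := ⟨Nat.prime_two⟩
  apply orderOf_eq_prime
  · rw [pow_two]
    apply Subtype.ext
    exact H.hE 0 (by decide)
  · intro h
    exact E0_ne H (congrArg Subtype.val h)

/-- The isomorphism one level down. -/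
theorem exists_psi : ∃ ψ : Γ₃ ≃* (Subgroup.centralizer ({E 0} : Set G) ⧸ Subgroup.zpowers (tA : Subgroup.centralizer ({E 0} : Set G))),
    ψ (Cfsg.Agent.Lib.TC.G.Fi23.K.E Cfsg.Agent.Lib.TC.G.Fi23.Rel 0) = QuotientGroup.mk ⟨E 2, (hA _).1 H.hE2.2.2⟩ := by
  obtain ⟨θ, hinj, hc, h0⟩ := H.hθ
  have := H.fin
  have : IsSimpleGroup Γ₃ := Cfsg.Agent.Lib.ThreeT.F23.Act.simple_Γ
  let θ' : Γ₃ →* Subgroup.centralizer ({E 0} : Set G) := θ.codRestrict _ (fun x => (hA _).1 (hc x).symm)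
  let ψ₀ : Γ₃ →* (Subgroup.centralizer ({E 0} : Set G) ⧸ Subgroup.zpowers (tA : Subgroup.centralizer ({E 0} : Set G))) :=
    (QuotientGroup.mk' _).comp θ'
  have h1 : Function.Injective ψ₀ := by
    rw [injective_iff_map_eq_one]
    rcases IsSimpleGroup.eq_bot_or_eq_top_of_normal ψ₀.ker inferInstance with h | h
    · intro a ha
      have : a ∈ ψ₀.ker := ha
      rw [h] at this
      exact this
    · exfalso
      obtain ⟨x, y, hxy⟩ := Cfsg.Agent.Lib.TC.D.Fi23Z.hnc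
      apply hxy
      apply hinj
      have hmem : ∀ x : Γ₃, θ' x ∈ Subgroup.zpowers (tA : Subgroup.centralizer ({E 0} : Set G)) := by
        intro x
        have : x ∈ ψ₀.ker := by rw [h]; trivial
        exact (QuotientGroup.eq_one_iff _).1 this
      obtain ⟨k, hk⟩ := hmem x
      obtain ⟨l, hl⟩ := hmem y
      have h2 : θ' x * θ' y = θ' y * θ' x := by
        rw [← hk, ← hl, ← zpow_add, ← zpow_add, add_comm]
      have h3 := congrArg Subtype.val h2
      rw [map_mul, map_mul]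
      exact h3
  have hcq : Nat.card (Subgroup.centralizer ({E 0} : Set G) ⧸ Subgroup.zpowers (tA : Subgroup.centralizer ({E 0} : Set G))) = 4089470473293004800 := by
    have h2 := Subgroup.card_eq_card_quotient_mul_card_subgroup (Subgroup.zpowers (tA : Subgroup.centralizer ({E 0} : Set G)))
    rw [Nat.card_zpowers, tA_order H, hcardA H] at h2
    exact (Nat.eq_of_mul_eq_mul_right (by norm_num : 0 < 2) ((by norm_num : 4089470473293004800 * 2 = 2 * 4089470473293004800).trans h2)).symm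
  have hfinQ : Finite (Subgroup.centralizer ({E 0} : Set G) ⧸ Subgroup.zpowers (tA : Subgroup.centralizer ({E 0} : Set G))) := inferInstance
  have hb : Function.Bijective ψ₀ :=
    (Nat.bijective_iff_injective_and_card ψ₀).2 ⟨h1, by rw [Cfsg.Agent.Lib.ThreeT.F23.Act.card_Γ, hcq]⟩
  refine ⟨MulEquiv.ofBijective ψ₀ hb, ?_⟩
  show QuotientGroup.mk (θ' _) = _
  rw [QuotientGroup.eq]
  have h6 : (θ' (Cfsg.Agent.Lib.TC.G.Fi23.K.E Cfsg.Agent.Lib.TC.G.Fi23.Rel 0))⁻¹ * ⟨E 2, (hA _).1 H.hE2.2.2⟩ = (tA : Subgroup.centralizer ({E 0} : Set G))⁻¹ := by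
    apply Subtype.ext
    show (θ (Cfsg.Agent.Lib.TC.G.Fi23.K.E Cfsg.Agent.Lib.TC.G.Fi23.Rel 0))⁻¹ * E 2 = (E 0)⁻¹
    rw [h0]
    group
  rw [h6]
  exact Subgroup.inv_mem _ (Subgroup.mem_zpowers _)

/-- The level. -/
theorem exists_χ : ∃ χ : Gd (conjugatesOf (E 0)) (E 0) ⧸ Subgroup.center (Gd (conjugatesOf (E 0)) (E 0)) ≃* Γ₃,
    ∀ q, q ∈ Dq (conjugatesOf (E 0)) (E 0) ↔ χ q ∈ Cfsg.Agent.Lib.ThreeT.Real.L23.D₃ := by
  obtain ⟨ψ, hψ⟩ := exists_psi H
  have := H.fin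
  haveI := Cfsg.Agent.Lib.ThreeT.F23.Act.simple_Γ
  let f₀ : Subgroup.centralizer ({E 0} : Set G) →* Γ₃ := ψ.symm.toMonoidHom.comp (QuotientGroup.mk' (Subgroup.zpowers tA))
  have hf₀ : Function.Surjective f₀ := ψ.symm.surjective.comp (QuotientGroup.mk'_surjective _)
  have hker : ∀ x : Subgroup.centralizer ({E 0} : Set G), f₀ x = 1 → (x : G) = 1 ∨ (x : G) = E 0 := by
    intro x hx
    have h2 : (QuotientGroup.mk x : Subgroup.centralizer ({E 0} : Set G) ⧸ Subgroup.zpowers tA) = 1 := by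
      apply ψ.symm.injective
      rw [map_one]
      exact hx
    have h3 : x ∈ Subgroup.zpowers (tA : Subgroup.centralizer ({E 0} : Set G)) := (QuotientGroup.eq_one_iff x).1 h2
    have hcard : Nat.card (Subgroup.zpowers (tA : Subgroup.centralizer ({E 0} : Set G))) = 2 := by rw [Nat.card_zpowers, tA_order H]
    have h5 : (tA : Subgroup.centralizer ({E 0} : Set G)) ≠ 1 := fun h => E0_ne H (congrArg Subtype.val h)
    rcases Prim.eq_of_card_two _ hcard (Subgroup.mem_zpowers _) h5 h3 with h6 | h6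
    · left
      exact congrArg Subtype.val h6
    · right
      exact congrArg Subtype.val h6
  let e₂ : Subgroup.centralizer ({E 0} : Set G) := ⟨E 2, (hA _).1 H.hE2.2.2⟩
  have he1 : ((e₂ : Subgroup.centralizer ({E 0} : Set G)) : G) ∈ Da (conjugatesOf (E 0)) (E 0) := H.hE2
  have hfe : f₀ e₂ = Cfsg.Agent.Lib.ThreeT.F23.DPts.e0 := by
    show ψ.symm (QuotientGroup.mk e₂) = _
    rw [← hψ, ψ.symm_apply_apply]
  have hne : f₀ e₂ ≠ 1 := by
    rw [hfe]
    intro h
    apply Cfsg.Agent.Lib.ThreeT.Real.L23.a0_ne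
    have h2 := Cfsg.Agent.Lib.ThreeT.F23.DPts.e0_eq
    rw [h] at h2
    have h3 : Cfsg.Agent.Lib.ThreeT.F23.DPts.a0 = (Cfsg.Agent.Lib.ThreeT.F23.Act.wv Cfsg.Agent.Lib.ThreeT.F23.DPts.ua)⁻¹ * 1 * (Cfsg.Agent.Lib.ThreeT.F23.Act.wv Cfsg.Agent.Lib.ThreeT.F23.DPts.ua) := by
      rw [h2]
      group
    rw [h3]
    group
  obtain ⟨χ, hχ⟩ := Level.exists_level hcj Cfsg.Agent.Lib.ThreeT.Real.L23.center_bot _ hA f₀ hf₀ hker e₂ he1 hne
  refine ⟨χ, fun q => Level.level_match hcj _ hA f₀ hf₀ e₂ he1 χ hχ ?_ ?_ q⟩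
  · intro y hy
    have hconn : ∀ i j : Fin pt.n, lab i.1 = lab j.1 → ∃ g ∈ Subgroup.centralizer ({E 0} : Set G), ρ g i = j := by
      intro i j hij
      obtain ⟨g, h1, h2⟩ := H.hconn i j hij
      exact ⟨g, (hAfix H g).2 h1, h2⟩
    refine Level.trans_of_lab (mdl H) hD _ hA (fun i => lab i.1) hconn 2 ?_ he1 hy
    exact Level.lab_of_reps (mdl H) _ hA (fun i => lab i.1) hconn (fun p => Cfsg.Agent.Lib.ThreeT.Real.Lab24.hlab3 p.1 p.2) Cfsg.Agent.Lib.ThreeT.Real.Lab24.hlab0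
      (r₁ := ⟨1, by decide +kernel⟩) Cfsg.Agent.Lib.ThreeT.Real.Lab24.hlab1 (by decide +kernel)
  · intro y
    rw [hfe]
    show _ ↔ _
    rw [Cfsg.Agent.Lib.ThreeT.Real.L23.hD, ]
    exact Cfsg.Agent.Lib.ThreeT.F23.DPts.D0_iff y

/-! ### The reflection part -/

omit H in
theorem card_mul_le {X : Type*} [Group X] [Finite X] {n : ℕ} (ρ : X →* Equiv.Perm (Fin n)) (A L : Subgroup X) (i₀ : Fin n) (I : Set (Fin n))
    (hI : ∀ i ∈ I, ∃ g ∈ A, ρ g i₀ = i) (hL : ∀ g ∈ L, g ∈ A ∧ ρ g i₀ = i₀) : Nat.card L * I.ncard ≤ Nat.card A := by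
  classical
  have hch : ∀ i : I, ∃ g : A, ρ (g : X) i₀ = i := by
    rintro ⟨i, hi⟩
    obtain ⟨g, hg, e⟩ := hI i hi
    exact ⟨⟨g, hg⟩, e⟩
  choose f hf using hch
  have hinj : Function.Injective (fun x : L × I => f x.2 * (⟨x.1, (hL _ x.1.2).1⟩ : A)) := by
    rintro ⟨b, i⟩ ⟨b', i'⟩ h
    have h1 : ((f i : X) * (b : X)) = (f i' : X) * (b' : X) := congrArg Subtype.val h
    have h2 := congrArg (fun g => ρ g i₀) h1
    simp only [map_mul, Equiv.Perm.mul_apply] at h2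
    rw [(hL _ b.2).2, (hL _ b'.2).2, hf, hf] at h2
    have h3 : i = i' := Subtype.ext h2
    subst h3
    have h4 : (b : X) = b' := mul_left_cancel h1
    rw [Subtype.ext h4]
  have h5 := Nat.card_le_card_of_injective _ hinj
  rw [Nat.card_prod] at h5
  rwa [Nat.card_coe_set_eq] at h5

omit H in
theorem hq (x : Fin 4 ⊕ Fin 4 → ZMod 3) : (plusForm 4 (ZMod 3)) x = q0 x := by
  rw [coe_plusForm]
  simp [quadFormPlus, q0, Fin.sum_univ_four]

omit H in
theorem hp (x y : Fin 4 ⊕ Fin 4 → ZMod 3) : polar (plusForm 4 (ZMod 3)) x y = pol0 x y := by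
  rw [polar]
  rw [coe_plusForm]
  simp only [quadFormPlus, q0, Fin.sum_univ_four, pol0, Pi.add_apply]
  ring

/-- The words of the points for the non-normality. -/
def u1 : List Nat := [1, 0, 2, 1, 3, 2]
def u2 : List Nat := [1, 0, 2, 1, 3, 4, 5, 6, 7, 8, 9, 10, 5, 4, 3, 6, 5, 7, 11, 10, 5, 4, 3, 6, 5, 4, 7, 6, 8, 7, 10, 5, 6, 11, 10, 5, 4, 3, 2]
def u3 : List Nat := [1, 0, 2, 1, 3, 4, 5, 6, 7, 8, 9, 10, 5, 4, 3, 6, 5, 7, 11, 10, 5, 4, 3, 2, 6, 5, 4, 7, 6, 8, 7, 10, 5, 6, 11, 10, 5, 4, 3, 2]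

omit H in
theorem hu1 : ∀ z ∈ u1, z < pt.k := by decide
omit H in
theorem hu2 : ∀ z ∈ u2, z < pt.k := by decide
omit H in
theorem hu3 : ∀ z ∈ u3, z < pt.k := by decide

omit H in
theorem hchk : sel pt tb (pt.val u1 0) = true ∧ pt.val [0] (pt.val u2 0) = pt.val u2 0 ∧ pt.val wc (pt.val u2 0) = pt.val u2 0 ∧
    pt.val (Mdl.tw [0] u2) (pt.val u1 0) = pt.val u3 0 ∧ sel pt tb (pt.val (Mdl.tw [0] u3) (pt.val u1 0)) = false := by
  decide +kernel

set_option maxHeartbeats 4000000 in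
/-- **The reflection part.** -/
theorem hL : ∃ (N : Subgroup (↥(Subgroup.closure ({y : G | y ∈ conjugatesOf (E 0) ∧ y ≠ prodA E [0] ∧ Commute (prodA E [0]) y} ∩ {y : G | y ∈ conjugatesOf (E 0) ∧ y ≠ prodA E wc ∧ Commute (prodA E wc) y})) ⧸
        Subgroup.center ↥(Subgroup.closure ({y : G | y ∈ conjugatesOf (E 0) ∧ y ≠ prodA E [0] ∧ Commute (prodA E [0]) y} ∩ {y : G | y ∈ conjugatesOf (E 0) ∧ y ≠ prodA E wc ∧ Commute (prodA E wc) y})))) (_ : N.Normal),
      Nonempty (N ≃* POmega (ZMod 3) (quadFormPlus 4 (ZMod 3))) ∧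
      Nonempty ((↥(Subgroup.closure ({y : G | y ∈ conjugatesOf (E 0) ∧ y ≠ prodA E [0] ∧ Commute (prodA E [0]) y} ∩ {y : G | y ∈ conjugatesOf (E 0) ∧ y ≠ prodA E wc ∧ Commute (prodA E wc) y})) ⧸
        Subgroup.center ↥(Subgroup.closure ({y : G | y ∈ conjugatesOf (E 0) ∧ y ≠ prodA E [0] ∧ Commute (prodA E [0]) y} ∩ {y : G | y ∈ conjugatesOf (E 0) ∧ y ≠ prodA E wc ∧ Commute (prodA E wc) y}))) ⧸ N ≃* Equiv.Perm (Fin 3)) := by
  have := H.fin
  set Td : Set G := {y : G | y ∈ conjugatesOf (E 0) ∧ y ≠ prodA E [0] ∧ Commute (prodA E [0]) y} ∩ {y : G | y ∈ conjugatesOf (E 0) ∧ y ≠ prodA E wc ∧ Commute (prodA E wc) y} with hTd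
  have hmem := fun y => (mdl H).mem_T (D := conjugatesOf (E 0)) hD hwd hwc (hdc H) y
  set T₁ : Set G := {y : G | ∃ p : Fin pt.n, sel pt tb p.1 = true ∧ y = (mdl H).x p} with hT₁'
  have hT₁ : T₁ ⊆ Td := by
    rintro y ⟨p, hp', rfl⟩
    have h1 := (sel_iff pt tb p.1).1 hp'
    exact (hmem _).2 ⟨p, h1.1, h1.2.1, rfl⟩
  have hrows' : ∀ p, p < pt.n → rowOK pt tb allI q0 pol0 1 [0] p = true := fun p hp' =>
    rangeB_spec hrows p (by omega) (by omega)
  have hsurj' : ∀ v, (plusForm 4 (ZMod 3)) v = 1 → surjOK pt tb allI v = true := by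
    intro v hv
    have h1 := allVec_spec 8 _ hsurj0 (v ∘ (finSumFinEquiv (m := 4) (n := 4)).symm)
    have h2 : (v ∘ (finSumFinEquiv (m := 4) (n := 4)).symm) ∘ (finSumFinEquiv (m := 4) (n := 4)) = v := by
      funext i
      simp
    beta_reduce at h1
    rw [h2, ← hq, hv] at h1
    simpa using h1
  obtain ⟨χ₁⟩ := exists_iso (mdl H) (plusForm 4 (ZMod 3)) (q0 := q0) (pol0 := pol0) (c := 1) hq hp (by decide) hallI hS hrows' hsurj'
  have hle : Subgroup.closure T₁ ≤ Subgroup.closure Td := Subgroup.closure_mono hT₁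
  let W : Subgroup ↥(Subgroup.closure Td) := (Subgroup.closure T₁).subgroupOf (Subgroup.closure Td)
  let e : W ≃* Subgroup.closure T₁ := Subgroup.subgroupOfEquivOfLe hle
  let χ : W ⧸ Subgroup.center W ≃* (↥(reflectionSubgroup (quadFormPlus 4 (ZMod 3)) 1) ⧸ Subgroup.center ↥(reflectionSubgroup (quadFormPlus 4 (ZMod 3)) 1)) :=
    (Cfsg.Agent.Lib.Classical.SympSimple.quotientCenterEquiv e).trans χ₁
  refine Cfsg.Agent.Lib.ThreeT.Real.Tri.main W 1 (by decide) χ ?_ ?_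
  · -- the order
    have hA' : ∀ y ∈ Subgroup.closure Td, y ∈ Subgroup.centralizer ({E 0} : Set G) ∧ ρ y pc = pc := by
      intro y hy
      have hsub : Subgroup.closure Td ≤ Subgroup.centralizer ({E 0} : Set G) ⊓ Subgroup.centralizer ({prodA E wc} : Set G) := by
        rw [Subgroup.closure_le]
        rintro z ⟨⟨-, -, h2⟩, ⟨-, -, h3⟩⟩
        refine ⟨?_, ?_⟩
        · rw [(mdl H).hbw] at h2
          exact (hA z).1 h2
        · show z ∈ Subgroup.centralizer ({prodA E wc} : Set G)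
          rw [Subgroup.mem_centralizer_singleton_iff]
          exact h3.eq.symm
      obtain ⟨h1, h2⟩ := hsub hy
      refine ⟨h1, ?_⟩
      replace h2 : y ∈ Subgroup.centralizer ({prodA E wc} : Set G) := h2
      rw [Subgroup.mem_centralizer_singleton_iff, hc_x H] at h2
      exact ((mdl H).comm_iff y _).1 h2
    have hI : ∀ i ∈ {i : Fin pt.n | lab i.1 = 1}, ∃ g ∈ Subgroup.centralizer ({E 0} : Set G), ρ g pc = i := by
      intro i hi
      obtain ⟨g, h1, h2⟩ := H.hconn pc i (by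
        rw [hlab_pc]
        exact hi.symm)
      exact ⟨g, (hAfix H g).2 h1, h2⟩
    have h1 := card_mul_le ρ (Subgroup.centralizer ({E 0} : Set G)) (Subgroup.closure Td) _ _ hI hA'
    rw [H.hsize, hcardA H] at h1
    have h2 : Nat.card ↥(Subgroup.closure Td) * 275264 ≤ (6 * 4952179814400) * 275264 := h1.trans (by norm_num)
    exact Nat.le_of_mul_le_mul_right h2 (by norm_num)
  · -- not normal
    intro hN
    have hk1 : ∀ u : List Nat, (∀ z ∈ u, z < pt.k) → ((ρ (prodA E u) 0 : Fin pt.n)).1 = pt.val u 0 := fun u hu => (mdl H).val_zero hu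
    let p1 : Fin pt.n := ρ (prodA E u1) 0
    let p2 : Fin pt.n := ρ (prodA E u2) 0
    let p3 : Fin pt.n := ρ (prodA E u3) 0
    obtain ⟨c1, c2, c3, c4, c5⟩ := hchk
    have e1 : p1.1 = pt.val u1 0 := hk1 u1 hu1
    have e2 : p2.1 = pt.val u2 0 := hk1 u2 hu2
    have e3 : p3.1 = pt.val u3 0 := hk1 u3 hu3
    have hs1 : sel pt tb p1.1 = true := by rw [e1]; exact c1
    have hx1 : (mdl H).x p1 ∈ T₁ := ⟨p1, hs1, rfl⟩
    have hx2 : (mdl H).x p2 ∈ Td := (hmem _).2 ⟨p2, by rw [e2]; exact c2, by rw [e2]; exact c3, rfl⟩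
    have h1 : (⟨(mdl H).x p1, Subgroup.subset_closure (hT₁ hx1)⟩ : ↥(Subgroup.closure Td)) ∈ W := Subgroup.subset_closure hx1
    have h2 := hN.conj_mem _ h1 ⟨(mdl H).x p2, Subgroup.subset_closure hx2⟩
    have h3 : (mdl H).x p2 * (mdl H).x p1 * ((mdl H).x p2)⁻¹ ∈ Subgroup.closure T₁ := h2
    rw [(mdl H).x_conj] at h3
    have h4 : ρ ((mdl H).x p2) p1 = p3 := by
      apply Fin.ext
      rw [(mdl H).val_tw hu2 p1, e1, e3]
      exact c4
    rw [h4] at h3
    have h5 := sel_stable (mdl H) hS hrows' h3 p1 hs1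
    have h6 := (mdl H).val_tw hu3 p1
    have h7 : (ρ ((mdl H).x p3) p1).1 = pt.val (Mdl.tw [0] u3) (pt.val u1 0) := by
      rw [← e1]
      exact h6
    rw [h7, c5] at h5
    exact absurd h5 (by simp)

/-! ### Primitivity -/

theorem hprim : IsPrimitiveUnderConj (conjugatesOf (E 0)) := by
  have := H.fin
  obtain ⟨H₀, hidx, hs, hnab⟩ := H.hsimple
  haveI : H₀.Normal := Subgroup.normal_of_index_eq_two hidx
  have hle : commutator G ≤ H₀ := by
    rw [commutator_def, Subgroup.commutator_le]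
    intro g _ h _
    rw [commutatorElement_def, Subgroup.mul_mem_iff_of_index_two hidx, Subgroup.mul_mem_iff_of_index_two hidx,
      Subgroup.mul_mem_iff_of_index_two hidx, Subgroup.inv_mem_iff, Subgroup.inv_mem_iff]
    tauto
  obtain ⟨x₀, y₀, hxy₀⟩ := hnab
  have hge : H₀ ≤ commutator G := by
    have h1 : commutator H₀ = ⊤ := by
      rcases hs.eq_bot_or_eq_top_of_normal (commutator H₀) inferInstance with h | h
      · exfalso
        have h3 : ⁅x₀, y₀⁆ ∈ commutator H₀ := Subgroup.commutator_mem_commutator (Subgroup.mem_top _) (Subgroup.mem_top _)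
        rw [h] at h3
        exact hxy₀ (commutatorElement_eq_one_iff_mul_comm.1 (Subgroup.mem_bot.1 h3))
      · exact h
    intro x hx
    have h2 : (⟨x, hx⟩ : H₀) ∈ commutator H₀ := by rw [h1]; trivial
    have h3 := Subgroup.mem_map_of_mem H₀.subtype h2
    rw [Subgroup.map_subtype_commutator] at h3
    exact Subgroup.commutator_mono le_top le_top h3
  have heq : commutator G = H₀ := le_antisymm hle hge
  refine prim_of_sol H.hclass ?_ ?_ ⟨prodA E [0], hdD H, prodA E wc, hcD H, fun h => hdc H (by rw [h])⟩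
  · intro N hN hsol
    rw [eq_bot_iff]
    have hcase : N ⊓ H₀ = ⊥ ∨ H₀ ≤ N := by
      rcases hs.eq_bot_or_eq_top_of_normal (N.subgroupOf H₀) inferInstance with h | h
      · left
        rw [eq_bot_iff]
        rintro x ⟨h1, h2⟩
        have h3 : (⟨x, h2⟩ : H₀) ∈ N.subgroupOf H₀ := h1
        rw [h, Subgroup.mem_bot] at h3
        exact congrArg Subtype.val h3
      · right
        intro x hx
        have h3 : (⟨x, hx⟩ : H₀) ∈ N.subgroupOf H₀ := by rw [h]; trivial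
        exact h3
    rcases hcase with h | h
    · intro x hx
      have hc : x ∈ Subgroup.center G := by
        rw [Subgroup.mem_center_iff]
        intro g
        have h1 : ⁅x, g⁆ ∈ commutator G := Subgroup.commutator_mem_commutator (Subgroup.mem_top _) (Subgroup.mem_top _)
        have h2 : ⁅x, g⁆ ∈ N := by
          rw [commutatorElement_def, mul_assoc x, mul_assoc x]
          exact N.mul_mem hx (hN.conj_mem _ (N.inv_mem hx) g)
        have h3 : ⁅x, g⁆ ∈ N ⊓ H₀ := ⟨h2, hle h1⟩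
        rw [h, Subgroup.mem_bot] at h3
        exact (commutatorElement_eq_one_iff_mul_comm.1 h3).symm
      rw [center_bot H] at hc
      exact hc
    · exfalso
      have hsolH : Group.IsSolvable H₀ := (by haveI := hsol; exact Group.isSolvable_of_isSolvable_injective (f := Subgroup.inclusion h) (Subgroup.inclusion_injective h))
      exact hxy₀ ((IsSimpleGroup.comm_iff_isSolvable).2 hsolH x₀ y₀)
  · rw [heq]
    have h3 : ⁅(⊤ : Subgroup H₀), ⊤⁆ = commutator H₀ := rfl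
    have h4 : commutator H₀ = ⊤ := by
      rcases hs.eq_bot_or_eq_top_of_normal (commutator H₀) inferInstance with h | h
      · exfalso
        have h3 : ⁅x₀, y₀⁆ ∈ commutator H₀ := Subgroup.commutator_mem_commutator (Subgroup.mem_top _) (Subgroup.mem_top _)
        rw [h] at h3
        exact hxy₀ (commutatorElement_eq_one_iff_mul_comm.1 (Subgroup.mem_bot.1 h3))
      · exact h
    have h5 := Subgroup.map_subtype_commutator H₀
    rw [h4] at h5
    rw [← h5]
    ext z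
    simp

/-- **The group is of type M(24).** -/
theorem main : IsThreeTranspositionClass (conjugatesOf (E 0)) ∧ IsPrimitiveUnderConj (conjugatesOf (E 0)) ∧ IsOfTypeM24 G (conjugatesOf (E 0)) := by
  refine ⟨H.hclass, hprim H, center_bot H, prodA E [0], hdD H, prodA E wc, hcD H, hdc H, ?_, hL H⟩
  obtain ⟨χ, hχ⟩ := exists_χ H
  have h1 := Cfsg.Agent.Lib.ThreeT.Real.L23.main.2.2
  rw [(mdl H).hbw]
  refine Cfsg.Agent.Lib.ThreeT.M24d.isOfTypeM23_congr χ.symm ?_ h1
  intro x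
  rw [show x ∈ Cfsg.Agent.Lib.ThreeT.Real.L23.D₃ ↔ χ (χ.symm x) ∈ Cfsg.Agent.Lib.ThreeT.Real.L23.D₃ by simp]
  exact (hχ _).symm

end Cfsg.Agent.Lib.ThreeT.Real.L24
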